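import Cfsg.Agent.SporB.J3.Scalar
import Cfsg.Prelude.Def_KGroupFacts

set_option autoImplicit false

/-!
An outer automorphism of J3: entrywise Frobenius together with conjugation of the nine indices.
-/

namespace Cfsg.Agent.SporB.J3

open scoped MatrixGroups
open scoped commutatorElement
open Cfsg.Spor

local notation "Z9" => ZMod 3 × ZMod 3

/-- conjugation of the indices -/
def flipE : Z9 ≃ Z9 where
  toFun z := (z.1, -z.2)
  invFun z := (z.1, -z.2)
  left_inv z := by simp
  right_inv z := by simp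

theorem flip_add (a b : Z9) : flipE (a + b) = flipE a + flipE b := by
  simp [flipE, Prod.ext_iff, add_comm]

theorem flip_flip (a : Z9) : flipE (flipE a) = a := flipE.left_inv a

theorem flip_facts :
    (∀ Z z : Z9, expD (flipE Z) (flipE z) = -expD Z z) ∧
    (∀ Z i j : Z9, flipE i = F9.mul Z (flipE j) ↔ i = F9.mul (flipE Z) j) ∧
    (∀ Z i j : Z9, entC Z (flipE i) (flipE j) = entC (flipE Z) i j) ∧
    (∀ Z : Z9, Z ≠ 0 → flipE Z ≠ 0) := by
  decide +kernel

variable {F : Type*} [Field F] [CharP F 2] (w : F)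

/-- the semilinear map of matrices -/
def phiM (M : Matrix Z9 Z9 F) : Matrix Z9 Z9 F := (M.map fun a => a ^ 2).submatrix flipE flipE

theorem phiM_mul (x y : Matrix Z9 Z9 F) : phiM (x * y) = phiM x * phiM y := by
  have h := Matrix.map_mul (L := x) (M := y) (f := frobenius F 2)
  show ((x * y).map fun a => a ^ 2).submatrix flipE flipE = _
  rw [show ((x * y).map fun a => a ^ 2) = (x.map fun a => a ^ 2) * (y.map fun a => a ^ 2) from h,
    ← Matrix.submatrix_mul_equiv _ _ flipE flipE flipE]
  rfl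

omit [CharP F 2] in
theorem phiM_one : phiM (1 : Matrix Z9 Z9 F) = 1 := by
  rw [phiM, Matrix.map_one (fun a : F => a ^ 2) (zero_pow two_ne_zero) (one_pow 2),
    Matrix.submatrix_one_equiv]

/-- the semilinear map as a homomorphism -/
def phiHom : Matrix Z9 Z9 F →* Matrix Z9 Z9 F where
  toFun := phiM
  map_one' := phiM_one
  map_mul' := phiM_mul

/-- on invertible matrices -/
def phiGL : GL Z9 F →* GL Z9 F := Units.map phiHom

theorem phiGL_val (g : GL Z9 F) : (phiGL g).val = phiM g.val := rfl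

theorem phiGL_injective : Function.Injective (phiGL : GL Z9 F → GL Z9 F) := by
  intro a b h
  refine Units.ext (Matrix.ext fun i j => ?_)
  have e := congrArg (fun x : GL Z9 F => (x.val : Matrix Z9 Z9 F) (flipE i) (flipE j)) h
  simp only [phiGL_val, phiM, Matrix.submatrix_apply, Matrix.map_apply, flip_flip] at e
  exact frobenius_inj F 2 e

omit [CharP F 2] in
theorem phiM_ent (f : Z9 → Z9 → Option (ZMod 3)) :
    phiM (Matrix.of fun i j => valF w (f i j)) =
      Matrix.of fun i j => (valF w (f (flipE i) (flipE j))) ^ 2 := rfl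

variable (hw : w ^ 2 + w + 1 = 0)

include hw

theorem valF_sq (n : Option (ZMod 3)) : valF w n ^ 2 = valF w (n.map Neg.neg) := by
  rcases n with _ | n
  · simp [valF]
  · fin_cases n
    · show (w ^ 0) ^ 2 = w ^ 0
      ring
    · show (w ^ 1) ^ 2 = w ^ 2
      ring
    · show (w ^ 2) ^ 2 = w ^ 1
      linear_combination w * w_cube hw

theorem phiM_gens {g : Matrix Z9 Z9 F} (hg : g ∈ j3Gens F w) :
    phiM g ∈ j3Gens F w ∨ ∃ e ∈ j3Gens F w, phiM g = e * e ∧ e * e * e = 1 := by
  rcases hg with (((⟨Z, rfl⟩ | ⟨Z, rfl⟩) | ⟨Z, rfl⟩) | ⟨Z, hZ, rfl⟩) | ⟨Z, hZ, rfl⟩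
  · left; left; left; left; left
    refine ⟨(-Z.1, Z.2), ?_⟩
    rw [j3A_eq w, j3A_eq w, phiM_ent]
    ext i j
    simp only [Matrix.of_apply, valF_sq w hw, entA]
    by_cases h : i = j
    · subst h
      simp only [if_true, Option.map_some]
      congr 2
      show -Z.1 * i.1 + Z.2 * i.2 = -(Z.1 * i.1 + Z.2 * -i.2)
      ring
    · have : ¬ flipE i = flipE j := fun e => h (flipE.injective e)
      simp [h, this, valF]
  · right
    refine ⟨j3E F w (flipE Z), Or.inl (Or.inl (Or.inl (Or.inr ⟨_, rfl⟩))), ?_, ?_⟩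
    · ext i j
      simp only [j3E, phiM, Matrix.submatrix_apply, Matrix.map_apply, Matrix.diagonal_mul_diagonal,
        omegaPow, flipE, Equiv.coe_fn_mk]
      by_cases h : i = j
      · subst h
        simp only [Matrix.diagonal_apply_eq]
        rw [sq]
        congr 3 <;> ring
      · have : ¬ ((i.1, -i.2) : Z9) = (j.1, -j.2) := fun e => h (flipE.injective e)
        simp [h, this]
    · rw [j3E, Matrix.diagonal_mul_diagonal, Matrix.diagonal_mul_diagonal, ← Matrix.diagonal_one]
      congr 1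
      funext i
      show omegaPow F w _ * omegaPow F w _ * omegaPow F w _ = (1 : F)
      rw [omegaPow, ← mul_pow, ← mul_pow, show w * w * w = 1 from by linear_combination w_cube hw,
        one_pow]
  · left; left; left; right
    refine ⟨flipE Z, ?_⟩
    rw [j3D_eq w, j3D_eq w, phiM_ent]
    ext i j
    simp only [Matrix.of_apply, valF_sq w hw, entD]
    by_cases h : i = j + flipE Z
    · have h' : flipE i = flipE j + Z := by rw [h, flip_add, flip_flip]
      have he := flip_facts.1 Z (flipE j)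
      rw [flip_flip] at he
      simp [h', ← h, he]
    · have h' : ¬ flipE i = flipE j + Z := fun e => h (flipE.injective (by
        rw [e, flip_add, flip_flip]))
      simp [h, h', valF]
  · left; left; right
    refine ⟨flipE Z, flip_facts.2.2.2 Z hZ, ?_⟩
    rw [j3B_eq w, j3B_eq w, phiM_ent]
    ext i j
    simp only [Matrix.of_apply, valF_sq w hw, entB, flip_facts.2.1]
    split_ifs <;> simp [valF]
  · left; right
    refine ⟨flipE Z, flip_facts.2.2.2 Z hZ, ?_⟩
    rw [j3C_eq w, j3C_eq w, phiM_ent]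
    ext i j
    simp only [Matrix.of_apply, valF_sq w hw, flip_facts.2.2.1]
    rw [show (entC (flipE Z) i j).map Neg.neg = entC (flipE Z) i j from ?_]
    unfold entC
    split_ifs <;> simp

theorem phiGL_mem {g : GL Z9 F} (hg : g ∈ threeJ3 F w) : phiGL g ∈ threeJ3 F w := by
  have hle : threeJ3 F w ≤ (threeJ3 F w).comap phiGL := by
    rw [threeJ3, Subgroup.closure_le]
    intro x hx
    show phiGL x ∈ threeJ3 F w
    rcases phiM_gens w hw hx with h | ⟨e, he, h1, h2⟩
    · exact Subgroup.subset_closure h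
    · have hu : IsUnit e := IsUnit.of_mul_eq_one (e * e) (by rw [← mul_assoc, h2])
      obtain ⟨u, rfl⟩ := hu
      have : phiGL x = u * u := Units.ext h1
      rw [this]
      exact mul_mem (Subgroup.subset_closure he) (Subgroup.subset_closure he)
  exact hle hg

variable [Finite F]

/-- the automorphism of the cover -/
theorem exists_cover_aut : ∃ α : MulAut ↥(threeJ3 F w),
    ∀ x, (α x : GL Z9 F) = phiGL x.1 := by
  let f : ↥(threeJ3 F w) →* ↥(threeJ3 F w) :=
    (phiGL.comp (threeJ3 F w).subtype).codRestrict _ fun x => phiGL_mem w hw x.2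
  have hf : Function.Injective f := fun a b h =>
    Subtype.ext (phiGL_injective (congrArg Subtype.val h))
  exact ⟨MulEquiv.ofBijective f (Finite.injective_iff_bijective.1 hf), fun x => rfl⟩

theorem exists_outer : ∃ β : MulAut (J3 F w), β ∉ Cfsg.Inn (J3 F w) := by
  obtain ⟨α, hα⟩ := exists_cover_aut w hw
  let β : MulAut (J3 F w) := QuotientGroup.congr _ _ α (Subgroup.map_equiv_eq_comap_symm' α _ |>.trans
    (Subgroup.Characteristic.fixed inferInstance α.symm))
  refine ⟨β, ?_⟩
  rintro ⟨g, hg⟩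
  obtain ⟨a, b, hab⟩ := exists_scalar_commutator w hw
  induction g using QuotientGroup.induction_on with
  | _ g =>
    have hx : ∀ x, (α x)⁻¹ * (g * x * g⁻¹) ∈ Subgroup.center ↥(threeJ3 F w) := by
      intro x
      have e : MulAut.conj (g : J3 F w) (x : J3 F w) = β (x : J3 F w) := by rw [hg]
      exact QuotientGroup.eq.1 e.symm
    have hc := smul_central w hw hab
    have hmem : ∀ x, ∃ z ∈ Subgroup.center ↥(threeJ3 F w), g * x * g⁻¹ = α x * z := fun x =>
      ⟨_, hx x, by group⟩
    obtain ⟨z, hz, ez⟩ := hmem a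
    obtain ⟨z', hz', ez'⟩ := hmem b
    have hz1 := Subgroup.mem_center_iff.1 hz
    have hz2 := Subgroup.mem_center_iff.1 hz'
    have hcg := Subgroup.mem_center_iff.1 hc
    have e1 : g * ⁅a, b⁆ * g⁻¹ = ⁅a, b⁆ := by rw [hcg g, mul_inv_cancel_right]
    have e2 : g * ⁅a, b⁆ * g⁻¹ = ⁅g * a * g⁻¹, g * b * g⁻¹⁆ := by
      simp only [commutatorElement_def]; group
    have e3 : ⁅α a * z, α b * z'⁆ = α ⁅a, b⁆ := by
      rw [map_commutatorElement, commutatorElement_def, commutatorElement_def]
      calc α a * z * (α b * z') * (α a * z)⁻¹ * (α b * z')⁻¹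
          = α a * (z * (α b * z')) * z⁻¹ * (α a)⁻¹ * (z'⁻¹ * (α b)⁻¹) := by group
        _ = α a * α b * z' * ((α a)⁻¹ * z'⁻¹) * (α b)⁻¹ := by rw [← hz1]; group
        _ = α a * α b * (z' * ((α a)⁻¹ * z'⁻¹)) * (α b)⁻¹ := by group
        _ = _ := by rw [← hz2]; group
    have e4 : α ⁅a, b⁆ = ⁅a, b⁆ := by rw [← e3, ← ez, ← ez', ← e2, e1]
    have e5 := congrArg (fun x : ↥(threeJ3 F w) => (x : GL Z9 F).val (0, 0) (0, 0)) e4
    simp only [hα, phiGL_val, phiM, Matrix.submatrix_apply, Matrix.map_apply, hab] at e5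
    simp [flipE] at e5
    have : w ^ 1 = w ^ 2 := by linear_combination e5 - w * w_cube hw
    exact w_ne_one hw (mul_left_cancel₀ (w_ne_zero hw) (by linear_combination -this))

end Cfsg.Agent.SporB.J3
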