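import Cfsg.Agent.SporB.J3.Centre

set_option autoImplicit false

/-! The group of the definitions is the group of the certificate. -/

namespace Cfsg.Agent.SporB.J3

open scoped MatrixGroups

local notation "Z9" => ZMod 3 × ZMod 3

/-- certificate for the family -/
def witA : List (ℕ × ℕ × ℕ) :=
  [(4631, 185, 54), (3307, 185, 54), (1704, 185, 54), (531, 185, 0), (4738, 38, 81), (4812, 185, 54), (4666, 185, 0), (1917, 109, 74), (3487, 185, 0)]

/-- certificate for the family -/
def witE : List (ℕ × ℕ × ℕ) :=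
  [(4795, 185, 0), (4739, 18, 43), (538, 91, 3), (1831, 185, 0), (3451, 229, 54), (4879, 146, 90), (3337, 91, 3), (1771, 91, 0), (4533, 229, 54)]

/-- certificate for the family -/
def witD : List (ℕ × ℕ × ℕ) :=
  [(4631, 185, 54), (1713, 185, 54), (2876, 185, 54), (2852, 185, 54), (4208, 185, 54), (2213, 185, 0), (2244, 185, 54), (2969, 185, 54), (1014, 185, 0)]

/-- certificate for the family -/
def witB' : List (ℕ × ℕ × ℕ) :=
  [(0, 0, 0), (587, 185, 54), (3560, 185, 54), (4631, 185, 54), (459, 185, 54), (731, 185, 54), (3307, 185, 0), (1690, 185, 54), (3316, 185, 0)]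

/-- certificate for the family -/
def witC : List (ℕ × ℕ × ℕ) :=
  [(0, 0, 0), (3311, 185, 54), (4914, 185, 54), (2481, 185, 54), (1639, 185, 54), (2059, 185, 54), (3642, 185, 0), (2809, 185, 54), (979, 185, 54)]

/-- a matrix entry: zero or a power of the cube root -/
def valF {F : Type*} [Field F] (w : F) : Option (ZMod 3) → F
  | none => 0
  | some n => w ^ n.val

/-- the bit pair of an entry -/
def bitsOf : Option (ZMod 3) → Bool × Bool
  | none => (false, false)
  | some n => bif Nat.beq n.val 0 then (true, false) else bif Nat.beq n.val 1 then (false, true) else (true, true)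

/-- a packed matrix has the given entries -/
def hasEntries (A : BM) (f : Z9 → Z9 → Option (ZMod 3)) : Prop :=
  ∀ i j, (Nat.testBit A.lo (9 * ix i + ix j), Nat.testBit A.hi (9 * ix i + ix j)) = bitsOf (f i j)

instance (A : BM) (f : Z9 → Z9 → Option (ZMod 3)) : Decidable (hasEntries A f) := by
  unfold hasEntries; infer_instance

theorem toM_eq_of {F : Type*} [Field F] [CharP F 2] {w : F} (hw : w ^ 2 + w + 1 = 0) {A : BM}
    {f : Z9 → Z9 → Option (ZMod 3)} (h : hasEntries A f) :
    toM w A = Matrix.of fun i j => valF w (f i j) := by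
  ext i j
  have h' := h i j
  simp only [Prod.ext_iff] at h'
  simp only [toM, Matrix.of_apply, h'.1, h'.2]
  rcases f i j with _ | n
  · simp [bitsOf, valF, bitF]
  · fin_cases n
    · show bitF F true + bitF F false * w = w ^ 0
      simp [bitF]
    · show bitF F false + bitF F true * w = w ^ 1
      simp [bitF]
    · show bitF F true + bitF F true * w = w ^ 2
      simp [bitF, w_sq hw]

/-- entries of `A_Z` -/
def entA (Z i j : Z9) : Option (ZMod 3) :=
  if i = j then some (Z.1 * i.1 + Z.2 * i.2) else none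

/-- entries of `E_Z` -/
def entE (Z i j : Z9) : Option (ZMod 3) :=
  if i = j then some ((Z.1 - i.1) ^ 2 + (Z.2 - i.2) ^ 2) else none

/-- exponent of the coefficient of `D_Z` -/
def expD (Z z : Z9) : ZMod 3 :=
  if z = 0 then 0
  else if Cfsg.Spor.F9.div Z z = Cfsg.Spor.F9.I - Cfsg.Spor.F9.one then 1
  else if Cfsg.Spor.F9.div Z z = -Cfsg.Spor.F9.I - Cfsg.Spor.F9.one then 2
  else 0

/-- entries of `D_Z` -/
def entD (Z i j : Z9) : Option (ZMod 3) := if i = j + Z then some (expD Z j) else none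

/-- entries of `B_Z` -/
def entB (Z i j : Z9) : Option (ZMod 3) := if i = Cfsg.Spor.F9.mul Z j then some 0 else none

/-- entries of `C_Z` -/
def entC (Z i j : Z9) : Option (ZMod 3) :=
  if j = 0 then (if i = 0 then some 0 else none)
  else if i = -Cfsg.Spor.F9.div Z j ∨ i = Cfsg.Spor.F9.mul Cfsg.Spor.F9.I (Cfsg.Spor.F9.div Z j) ∨
      i = -Cfsg.Spor.F9.mul Cfsg.Spor.F9.I (Cfsg.Spor.F9.div Z j) then some 0 else none

/-- the product named by a witness -/
noncomputable def witB (r : ℕ × ℕ × ℕ) : BM := bmul (cT r.1) (bmul (vU r.2.1) (sS r.2.2))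

/-- the witness in a list -/
def witAt (l : List (ℕ × ℕ × ℕ)) (Z : Z9) : ℕ × ℕ × ℕ := l.getD (ix Z) (0, 0, 0)

theorem wit_bounds : ∀ Z : Z9, ∀ l ∈ [witA, witE, witD, witB', witC],
    (witAt l Z).1 < 6156 ∧ (witAt l Z).2.1 < 255 ∧ (witAt l Z).2.2 < 96 := by decide +kernel

theorem famA : ∀ Z, hasEntries (witB (witAt witA Z)) (entA Z) := by decide +kernel

theorem famE : ∀ Z, hasEntries (witB (witAt witE Z)) (entE Z) := by decide +kernel

theorem famD : ∀ Z, hasEntries (witB (witAt witD Z)) (entD Z) := by decide +kernel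

theorem famB : ∀ Z, Z ≠ 0 → hasEntries (witB (witAt witB' Z)) (entB Z) := by decide +kernel

theorem famC : ∀ Z, Z ≠ 0 → hasEntries (witB (witAt witC Z)) (entC Z) := by decide +kernel

theorem gen_fam : hasEntries gen0 (entD (1, 0)) ∧ hasEntries gen1 (entB (1, 1)) ∧
    hasEntries gen2 (entC (1, 0)) := by decide +kernel

variable {F : Type*} [Field F] (w : F) [Finite F] [CharP F 2] (hw : w ^ 2 + w + 1 = 0)

omit [Finite F] [CharP F 2] in
theorem j3A_eq (Z : Z9) : Cfsg.Spor.j3A F w Z = Matrix.of fun i j => valF w (entA Z i j) := by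
  ext i j
  by_cases h : i = j
  · subst h
    simp [Cfsg.Spor.j3A, Cfsg.Spor.omegaPow, valF, entA]
  · simp [Cfsg.Spor.j3A, valF, entA, h]

omit [Finite F] [CharP F 2] in
theorem j3E_eq (Z : Z9) : Cfsg.Spor.j3E F w Z = Matrix.of fun i j => valF w (entE Z i j) := by
  ext i j
  by_cases h : i = j
  · subst h
    simp [Cfsg.Spor.j3E, Cfsg.Spor.omegaPow, valF, entE]
  · simp [Cfsg.Spor.j3E, valF, entE, h]

omit [Finite F] [CharP F 2] in
theorem j3D_eq (Z : Z9) : Cfsg.Spor.j3D F w Z = Matrix.of fun i j => valF w (entD Z i j) := by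
  ext i j
  simp only [Cfsg.Spor.j3D, Cfsg.Spor.j3Lam, entD, expD, Matrix.of_apply]
  split_ifs <;> simp [valF, ZMod.val_one, show (2 : ZMod 3).val = 2 from rfl]

omit [Finite F] [CharP F 2] in
theorem j3B_eq (Z : Z9) : Cfsg.Spor.j3B F Z = Matrix.of fun i j => valF w (entB Z i j) := by
  ext i j
  simp only [Cfsg.Spor.j3B, entB, Matrix.of_apply]
  split_ifs <;> simp [valF]

omit [Finite F] [CharP F 2] in
theorem j3C_eq (Z : Z9) : Cfsg.Spor.j3C F Z = Matrix.of fun i j => valF w (entC Z i j) := by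
  ext i j
  simp only [Cfsg.Spor.j3C, entC, Matrix.of_apply]
  split_ifs <;> simp [valF]

include hw

omit [Finite F] in
theorem witB_mem (l : List (ℕ × ℕ × ℕ)) (hl : l ∈ [witA, witE, witD, witB', witC]) (Z : Z9) :
    InS w (GS w) (witB (witAt l Z)) := by
  obtain ⟨h1, h2, h3⟩ := wit_bounds Z l hl
  exact inS_mul w hw (cT_mem w hw _ h1) (inS_mono w (HS_le w hw) (US_mem w hw h2 h3))

omit [Finite F] in
theorem threeJ3_eq : Cfsg.Spor.threeJ3 F w = GS w := by
  refine le_antisymm ?_ ?_
  · rw [Cfsg.Spor.threeJ3, Subgroup.closure_le]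
    intro x hx
    have key : ∀ l ∈ [witA, witE, witD, witB', witC], ∀ Z : Z9,
        (x : Matrix Z9 Z9 F) = toM w (witB (witAt l Z)) → x ∈ GS w := by
      intro l hl Z e
      obtain ⟨y, hy, ey⟩ := witB_mem w hw l hl Z
      rwa [Units.ext (e.trans ey.symm)]
    rcases hx with (((⟨Z, e⟩ | ⟨Z, e⟩) | ⟨Z, e⟩) | ⟨Z, hZ, e⟩) | ⟨Z, hZ, e⟩
    · exact key witA (by simp) Z (by rw [← e, j3A_eq w, toM_eq_of hw (famA Z)])
    · exact key witE (by simp) Z (by rw [← e, j3E_eq w, toM_eq_of hw (famE Z)])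
    · exact key witD (by simp) Z (by rw [← e, j3D_eq w, toM_eq_of hw (famD Z)])
    · exact key witB' (by simp) Z (by rw [e, j3B_eq w, toM_eq_of hw (famB Z hZ)])
    · exact key witC (by simp) Z (by rw [e, j3C_eq w, toM_eq_of hw (famC Z hZ)])
  · rw [GS, gen3S, Subgroup.closure_le]
    intro x hx
    refine Subgroup.subset_closure ?_
    rcases hx with h | h | h
    · exact Or.inl (Or.inl (Or.inr ⟨(1, 0), by rw [h, j3D_eq w, toM_eq_of hw gen_fam.1]⟩))
    · exact Or.inl (Or.inr ⟨(1, 1), by decide, by rw [h, j3B_eq w, toM_eq_of hw gen_fam.2.1]⟩)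
    · exact Or.inr ⟨(1, 0), by decide, by rw [h, j3C_eq w, toM_eq_of hw gen_fam.2.2]⟩

theorem threeJ3_facts :
    Nat.card (Subgroup.center (Cfsg.Spor.threeJ3 F w)) = 3 ∧
    Nat.card (Cfsg.Spor.threeJ3 F w) = 150698880 ∧
    Nat.card (Cfsg.Spor.threeJ3 F w ⧸ Subgroup.center (Cfsg.Spor.threeJ3 F w)) = 50232960 ∧
    IsSimpleGroup (Cfsg.Spor.threeJ3 F w ⧸ Subgroup.center (Cfsg.Spor.threeJ3 F w)) := by
  rw [threeJ3_eq w hw]
  exact ⟨card_center_GS w hw, card_GS w hw, card_quotient w hw, simple_quotient w hw⟩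

/-- the large subgroup has index 6156 in the simple quotient -/
theorem exists_index_subgroup :
    ∃ H : Subgroup (GS w ⧸ Subgroup.center (GS w)), H.index = 6156 := by
  obtain ⟨s, hs, hsc, os⟩ := exists_sc w hw
  obtain ⟨z, -, hz⟩ := center_GS w hw
  refine ⟨((HS w).subgroupOf (GS w)).map (QuotientGroup.mk' _), ?_⟩
  have hle : Subgroup.center (GS w) ≤ (HS w).subgroupOf (GS w) := by
    obtain ⟨u, hu, eu, ou⟩ := exists_u w hw
    intro x hx
    obtain ⟨a, b, -, -, e⟩ := cent_eq w hw hu eu ou hs hsc os x.2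
      (congrArg Subtype.val (Subgroup.mem_center_iff.1 hx ⟨u, HS_le w hw hu⟩)).symm
    rw [Subgroup.mem_subgroupOf, e]
    exact mul_mem (pow_mem hu _) (pow_mem hs _)
  rw [Subgroup.index_map_eq _ (QuotientGroup.mk'_surjective _) (by rwa [QuotientGroup.ker_mk'])]
  have h := Subgroup.card_mul_index ((HS w).subgroupOf (GS w))
  rw [Nat.card_congr (Subgroup.subgroupOfEquivOfLe (HS_le w hw)).toEquiv, card_HS w hw,
    card_GS w hw] at h
  omega

end Cfsg.Agent.SporB.J3
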