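import Cfsg.Agent.SporB.J3.InvTests

set_option autoImplicit false

namespace Cfsg.Agent.SporB.J3

theorem frows_check2 : allB fRowB 3078 1539 = true := by decide +kernel

end Cfsg.Agent.SporB.J3
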