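import Cfsg.Agent.SporB.J3.InvTheory
import Cfsg.Agent.SporB.J3.InvCheck0
import Cfsg.Agent.SporB.J3.InvCheck1
import Cfsg.Agent.SporB.J3.InvCheck2
import Cfsg.Agent.SporB.J3.InvCheck3
import Cfsg.Agent.SporB.J3.Family

/-! The certificate facts hold in the simple quotient. -/

set_option autoImplicit false

namespace Cfsg.Agent.SporB.J3

open scoped MatrixGroups

local notation "Z9" => ZMod 3 × ZMod 3

theorem frow_of_lt {i : ℕ} (h : i < 6156) : fRowB i = true := by
  rcases Nat.lt_or_ge i 1539 with h1 | h1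
  · exact allB_spec frows_check0 (by omega) (by omega)
  rcases Nat.lt_or_ge i 3078 with h2 | h2
  · exact allB_spec frows_check1 (by omega) (by omega)
  rcases Nat.lt_or_ge i 4617 with h3 | h3
  · exact allB_spec frows_check2 (by omega) (by omega)
  · exact allB_spec frows_check3 (by omega) (by omega)

theorem goodB_smulB (c : ℕ) {A : BM} (h : goodB A = true) : goodB (smulB c A) = true := by
  obtain ⟨l, u⟩ := A
  simp only [goodB, Bool.and_eq_true, Nat.blt_eq] at h ⊢
  unfold smulB
  cases Nat.beq c 0 <;> cases Nat.beq c 1 <;>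
    simp only [cond_true, cond_false] <;>
    first
      | exact h
      | exact ⟨h.2, Nat.xor_lt_two_pow h.1 h.2⟩
      | exact ⟨Nat.xor_lt_two_pow h.1 h.2, h.1⟩

theorem q_pow : ∀ i : Fin 32, qM (qM i.val i.val) (qM i.val i.val) = 0 := by decide +kernel

theorem q_inv : ∀ i : Fin 32, ∃ l : Fin 32, qM l.val i.val = 0 := by decide +kernel

theorem scal_good : goodB oneB = true ∧ scalB oneB = true ∧ scalB (smulB 1 oneB) = true ∧
    scalB (smulB 2 oneB) = true := by decide +kernel

variable {F : Type*} [Field F] (w : F) [Finite F] [CharP F 2] (hw : w ^ 2 + w + 1 = 0)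

include hw

theorem witOK_mem {A : BM} {r : ℕ × ℕ × ℕ} (h : witOK A r = true) : InS w (GS w) A := by
  simp only [witOK, Bool.and_eq_true] at h
  obtain ⟨⟨⟨h1, h2⟩, h3⟩, h4⟩ := h
  rw [beqB_eq h4]
  exact inS_mul w hw (cT_mem w hw _ (lt_of_blt h1))
    (inS_mono w (HS_le w hw) (US_mem w hw (lt_of_blt h2) (lt_of_blt h3)))

theorem GS_ext {x y : GS w} {A : BM} (hx : ((x : GL Z9 F) : Matrix Z9 Z9 F) = toM w A)
    (hy : ((y : GL Z9 F) : Matrix Z9 Z9 F) = toM w A) : x = y :=
  Subtype.ext (Units.ext (hx.trans hy.symm))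

theorem center_pow {z : GS w} (hz : z ∈ Subgroup.center (GS w)) : z ^ 3 = 1 := by
  have h := pow_card_eq_one' (x := (⟨z, hz⟩ : Subgroup.center (GS w)))
  rw [card_center_GS w hw] at h
  exact congrArg Subtype.val h

theorem center_cases {z : GS w} (hz : z ∈ Subgroup.center (GS w)) :
    ∃ e < 3, ((z : GL Z9 F) : Matrix Z9 Z9 F) = w ^ e • 1 := by
  obtain ⟨-, -, -, -, -, -, -, i8, i9, -⟩ := index_check
  obtain ⟨s, hs, es⟩ := inS_mono w (HS_le w hw) (US_mem w hw i8 i9)
  have hsv : (s : Matrix Z9 Z9 F) = w • 1 := by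
    rw [es.trans (congrArg (toM w) (consts.wH.symm.trans consts.wval)),
      toM_smulB hw 1 (by norm_num), toM_oneB, pow_one]
  have hsc : (⟨s, hs⟩ : GS w) ∈ Subgroup.center (GS w) := Subgroup.mem_center_iff.2 fun g =>
    Subtype.ext (Units.ext (by
      show ((g : GL Z9 F) : Matrix Z9 Z9 F) * (s : Matrix Z9 Z9 F) = (s : Matrix Z9 Z9 F) * _
      rw [hsv]; simp))
  have hs1 : (⟨s, hs⟩ : GS w) ≠ 1 := fun e => by
    have h1 : (s : Matrix Z9 Z9 F) = 1 := congrArg (fun g : GS w => ((g : GL Z9 F) : Matrix Z9 Z9 F)) e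
    rw [hsv] at h1
    have := congrFun (congrFun h1 0) 0
    simp at this
    exact w_ne_one hw this
  have : Fact (Nat.Prime 3) := ⟨by norm_num⟩
  have htop := zpowers_eq_top_of_prime_card (card_center_GS w hw) (g := ⟨_, hsc⟩)
    (fun e => hs1 (congrArg Subtype.val e))
  obtain ⟨k, hk⟩ := (isOfFinOrder_of_finite (⟨_, hsc⟩ : Subgroup.center (GS w))).mem_powers_iff_mem_zpowers.2
    (htop ▸ Subgroup.mem_top (⟨z, hz⟩ : Subgroup.center (GS w)))
  refine ⟨k % 3, Nat.mod_lt _ (by norm_num), ?_⟩
  have e : s ^ k = (z : GL Z9 F) := congrArg (fun g : Subgroup.center (GS w) => ((g : GS w) : GL Z9 F)) hk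
  rw [← e, Units.val_pow_eq_pow_val, hsv, ← wpow_mod w hw]
  simp [Algebra.smul_def, ← map_pow]

/-- elements with the same image in the quotient are proportional -/
theorem mk_eq_mk {x y : GS w} (h : (x : GS w ⧸ Subgroup.center (GS w)) = y) :
    ∃ e < 3, ((y : GL Z9 F) : Matrix Z9 Z9 F) = w ^ e • ((x : GL Z9 F) : Matrix Z9 Z9 F) := by
  obtain ⟨e, he, hm⟩ := center_cases w hw (QuotientGroup.eq.1 h)
  refine ⟨e, he, ?_⟩
  have : y = x * (x⁻¹ * y) := by group
  rw [this, Subgroup.coe_mul, Units.val_mul, hm]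
  simp

theorem mk_eq_one_of_sq {x : GS w} (h2 : x ^ 128 = 1)
    (h : (x : GS w ⧸ Subgroup.center (GS w)) = 1) : x = 1 := by
  have h3 := center_pow w hw ((QuotientGroup.eq_one_iff x).1 h)
  have := Nat.dvd_gcd (orderOf_dvd_of_pow_eq_one h2) (orderOf_dvd_of_pow_eq_one h3)
  rwa [show Nat.gcd 128 3 = 1 by norm_num, Nat.dvd_one, orderOf_eq_one_iff] at this

theorem exists_invCert :
    Nonempty (InvCert (GS w ⧸ Subgroup.center (GS w))) := by
  let J := GS w ⧸ Subgroup.center (GS w)
  have hqr : ∀ i : Fin 32, qRowB i.val = true := fun i =>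
    allB_spec qrows_check (Nat.zero_le _) (by simp)
  have hhr : ∀ i : Fin 60, hRowB i.val = true := fun i =>
    allB_spec hrows_check (Nat.zero_le _) (by simp)
  have hir : ∀ i : Fin 323, iRowB i.val = true := fun i =>
    allB_spec irows_check (Nat.zero_le _) (by simp)
  simp only [qRowB, Bool.and_eq_true, List.all_eq_true, List.mem_range] at hqr
  simp only [hRowB, Bool.and_eq_true, List.all_eq_true, List.mem_range] at hhr
  simp only [iRowB, Bool.and_eq_true] at hir
  choose qE hqE hqv using fun i : Fin 32 => witOK_mem w hw (hqr i).1.1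
  choose hE hhE hhv using fun i : Fin 60 => witOK_mem w hw (hhr i).1.1.1
  choose yE hyE hyv using fun n : Fin 323 =>
    US_mem w hw (lt_of_blt (hir n).1.1.1.1.1) (lt_of_blt (hir n).1.1.1.1.2)
  choose Tf hTf hTv using fun m : Fin 6156 => cT_mem w hw m m.2
  let π : GS w →* J := QuotientGroup.mk' _
  let qG : Fin 32 → GS w := fun i => ⟨qE i, hqE i⟩
  let hG : Fin 60 → GS w := fun i => ⟨hE i, hhE i⟩
  let yG : Fin 323 → GS w := fun n => ⟨yE n, HS_le w hw (hyE n)⟩
  have qm : ∀ i j k : Fin 32, qM i.val j.val = k.val → qG i * qG j = qG k := fun i j k e =>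
    GS_ext w hw (A := qB k.val) (by
      show ((qE i * qE j : GL Z9 F) : Matrix Z9 Z9 F) = _
      rw [Units.val_mul, hqv, hqv, ← toM_bmul w hw, beqB_eq ((hqr i).2 j j.2).1.2, e]) (hqv k)
  have hm : ∀ i j k : Fin 60, hM i.val j.val = k.val → hG i * hG j = hG k := fun i j k e =>
    GS_ext w hw (A := hB k.val) (by
      show ((hE i * hE j : GL Z9 F) : Matrix Z9 Z9 F) = _
      rw [Units.val_mul, hhv, hhv, ← toM_bmul w hw, beqB_eq ((hhr i).1.2 j j.2).2, e]) (hhv k)
  have q0 : qG 0 = 1 := GS_ext w hw (A := oneB)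
    ((hqv 0).trans (congrArg (toM w) (beqB_eq small_check.2.1))) (by simp [toM_oneB])
  have h0 : hG 0 = 1 := GS_ext w hw (A := oneB)
    ((hhv 0).trans (congrArg (toM w) (beqB_eq small_check.2.2.1))) (by simp [toM_oneB])
  have qc : ∀ i j : Fin 32, qM i.val j.val < 32 := fun i j => lt_of_blt ((hqr i).2 j j.2).1.1
  have q128 : ∀ i, qG i ^ 128 = 1 := by
    intro i
    have h4 : qG i ^ 4 = 1 := by
      rw [show 4 = 2 * 2 from rfl, pow_mul, pow_two, pow_two, qm i i ⟨_, qc i i⟩ rfl,
        qm _ _ 0 (q_pow i), q0]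
    rw [show 128 = 4 * 32 from rfl, pow_mul, h4, one_pow]
  have q_inj : Function.Injective fun i => π (qG i) := by
    intro i j e
    obtain ⟨l, hl⟩ := q_inv i
    have hz : π (qG l * qG j) = 1 := by
      rw [map_mul, show π (qG j) = π (qG i) from e.symm, ← map_mul, qm l i 0 hl, q0, map_one]
    rw [qm l j ⟨_, qc l j⟩ rfl] at hz
    have h1 := mk_eq_one_of_sq w hw (q128 _) hz
    rw [← qm l j ⟨_, qc l j⟩ rfl] at h1
    have h2 : qG j = qG i := by
      have h3 : qG l * qG i = 1 := by rw [qm l i 0 hl, q0]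
      exact mul_left_cancel (h1.trans h3.symm)
    by_contra hne
    have h4 := ((hqr i).2 j j.2).2
    rw [beq_false_of_ne (fun e => hne (Fin.ext e)), Bool.false_or, Bool.not_eq_true'] at h4
    have h5 : qB i.val = qB j.val := toM_inj hw (hqr i).1.2 (hqr j).1.2
      (((hqv i).symm.trans (congrArg (fun g : GS w => ((g : GL Z9 F) : Matrix Z9 Z9 F)) h2.symm)).trans (hqv j))
    rw [h5] at h4
    simp [beqB] at h4
  have hHS : Subgroup.center (GS w) ≤ (HS w).subgroupOf (GS w) := by
    intro z hz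
    obtain ⟨e, he, ez⟩ := center_cases w hw hz
    obtain ⟨-, -, -, -, -, -, -, i8, i9, -⟩ := index_check
    obtain ⟨s, hs, es⟩ := US_mem w hw i8 i9
    replace es := es.trans (congrArg (toM w) (consts.wH.symm.trans consts.wval))
    rw [toM_smulB hw 1 (by norm_num), toM_oneB, pow_one] at es
    have : (z : GL Z9 F) = s ^ e := Units.ext (by
      rw [Units.val_pow_eq_pow_val, es, ez]; simp [Algebra.smul_def, ← map_pow])
    rw [Subgroup.mem_subgroupOf, this]
    exact pow_mem hs _
  let K : Subgroup J := ((HS w).subgroupOf (GS w)).map π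
  have hKmem : ∀ x : GS w, π x ∈ K → (x : GL Z9 F) ∈ HS w := by
    intro x hx
    obtain ⟨y, hy, e⟩ := hx
    have hz := hHS (QuotientGroup.eq.1 e)
    have := Subgroup.mul_mem _ hy hz
    rwa [mul_inv_cancel_left] at this
  refine ⟨{
    q := fun i => π (qG i)
    h := fun i => π (hG i)
    hq0 := by simp only [q0, map_one]
    hh0 := by simp only [h0, map_one]
    q_inj := q_inj
    qmul := fun i j k e => by rw [← map_mul, qm i j k e]
    hmul := fun i j k e => by rw [← map_mul, hm i j k e]
    hconj := fun j i k e => by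
      rw [← map_mul, ← map_mul]
      refine congrArg π (Subtype.ext (Units.ext ?_))
      show ((hE j * qE i : GL Z9 F) : Matrix Z9 Z9 F) = ((qE k * hE j : GL Z9 F) : Matrix Z9 Z9 F)
      rw [Units.val_mul, Units.val_mul, hhv, hqv, hqv, ← toM_bmul w hw, ← toM_bmul w hw,
        beqB_eq ((hhr j).2 i i.2).2, e]
    qclosed := qc
    hclosed := fun i j => lt_of_blt ((hhr i).1.2 j j.2).1
    cclosed := fun j i => lt_of_blt ((hhr j).2 i i.2).1
    pconj := fun i v n e => ?_
    K := K
    card_K := ?_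
    T := fun m => π ⟨Tf ⟨fixPts.getD m.val 0 % 6156, Nat.mod_lt _ (by norm_num)⟩, hTf _⟩
    fix := fun g hg => ?_
    y := fun n => π (yG n)
    y_inj := ?_
    y_mem := fun n => Subgroup.mem_map_of_mem π (Subgroup.mem_subgroupOf.2 (hyE n))
    y_sq := fun n => by
      rw [← map_mul, show yG n * yG n = 1 from GS_ext w hw (A := oneB) (by
        show ((yE n * yE n : GL Z9 F) : Matrix Z9 Z9 F) = _
        rw [Units.val_mul, hyv, ← toM_bmul w hw]
        exact congrArg (toM w) (beqB_eq (hir n).1.1.2)) (by simp [toM_oneB]), map_one]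
    y_ne := ?_
    card_J := card_quotient w hw }⟩
  · -- conjugating elements for involutions of the Sylow subgroup
    have hp := allB_spec prows_check (i := 4 * i.val + n.val) (Nat.zero_le _) (by omega)
    simp only [pRowB, show (4 * i.val + n.val) / 4 = i.val by omega,
      show (4 * i.val + n.val) % 4 = n.val by omega, e, Bool.or_eq_true, Bool.not_eq_true'] at hp
    set s := qG i * hG v
    have es : ((s : GL Z9 F) : Matrix Z9 Z9 F) = toM w (bmul (qB i.val) (hB v.val)) := by
      show ((qE i * hE v : GL Z9 F) : Matrix Z9 Z9 F) = _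
      rw [Units.val_mul, hqv, hhv, toM_bmul w hw]
    rcases hp with (hp | hp) | hp
    · left
      intro h1
      rw [← map_mul, ← map_mul] at h1
      obtain ⟨f, hf, ef⟩ := mk_eq_mk w hw (x := 1) (y := s * s) h1.symm
      rw [Subgroup.coe_mul, Units.val_mul, es, ← toM_bmul w hw,
        show (((1 : GS w) : GL Z9 F) : Matrix Z9 Z9 F) = toM w oneB by simp [toM_oneB],
        ← toM_smulB hw f hf] at ef
      have := toM_inj hw (goodB_bmul _ _) (goodB_smulB f scal_good.1) ef
      rw [this] at hp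
      interval_cases f
      · rw [show smulB 0 oneB = oneB from rfl, scal_good.2.1] at hp; simp at hp
      · rw [scal_good.2.2.1] at hp; simp at hp
      · rw [scal_good.2.2.2] at hp; simp at hp
    · right; left
      simp only [scalB, Bool.or_eq_true] at hp
      rw [← map_mul]
      refine (QuotientGroup.eq_one_iff s).2 (Subgroup.mem_center_iff.2 fun g => ?_)
      obtain ⟨f, hf, ef⟩ : ∃ f < 3, bmul (qB i.val) (hB v.val) = smulB f oneB := by
        rcases hp with (hp | hp) | hp
        · exact ⟨0, by norm_num, beqB_eq hp⟩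
        · exact ⟨1, by norm_num, beqB_eq hp⟩
        · exact ⟨2, by norm_num, beqB_eq hp⟩
      refine Subtype.ext (Units.ext ?_)
      show ((g : GL Z9 F) : Matrix Z9 Z9 F) * ((s : GL Z9 F) : Matrix Z9 Z9 F) =
        ((s : GL Z9 F) : Matrix Z9 Z9 F) * ((g : GL Z9 F) : Matrix Z9 Z9 F)
      rw [es, ef, toM_smulB hw f hf, toM_oneB]
      simp
    · right; right
      simp only [Bool.and_eq_true] at hp
      obtain ⟨⟨⟨b1, b2⟩, b3⟩, b4⟩ := hp
      obtain ⟨g, hg, eg⟩ := inS_mul w hw (cT_mem w hw _ (lt_of_blt b1))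
        (inS_mono w (HS_le w hw) (US_mem w hw (lt_of_blt b2) (lt_of_blt b3)))
      refine ⟨π ⟨g, hg⟩, ?_⟩
      rw [← map_mul, ← map_mul, ← map_mul]
      refine congrArg π (Subtype.ext (Units.ext ?_))
      show (g : Matrix Z9 Z9 F) * (qE 1 : Matrix Z9 Z9 F) =
        ((s : GL Z9 F) : Matrix Z9 Z9 F) * (g : Matrix Z9 Z9 F)
      rw [es, hqv, eg, ← toM_bmul w hw, ← toM_bmul w hw]
      exact congrArg (toM w) (beqB_eq b4)
  · have h1 : Nat.card ((HS w).subgroupOf (GS w)) = 24480 := by
      rw [Nat.card_congr (Subgroup.subgroupOfEquivOfLe (HS_le w hw)).toEquiv, card_HS w hw]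
    have h2 := Subgroup.index_map_eq (H := (HS w).subgroupOf (GS w))
      (QuotientGroup.mk'_surjective (Subgroup.center (GS w))) (by rwa [QuotientGroup.ker_mk'])
    have h3 := Subgroup.card_mul_index K
    have h4 := Subgroup.card_mul_index ((HS w).subgroupOf (GS w))
    change K.index = _ at h2
    rw [h2, show Nat.card J = 50232960 from card_quotient w hw] at h3
    rw [h1, card_GS w hw] at h4
    rw [show ((HS w).subgroupOf (GS w)).index = 6156 by omega] at h3
    exact (Nat.eq_of_mul_eq_mul_right (m := 6156) (by norm_num)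
      (h3.trans (by norm_num : 50232960 = 8160 * 6156))).le
  · -- cosets fixed by the involution
    induction g using QuotientGroup.induction_on with
    | _ x =>
      have hdec : ∃ (m : Fin 6156), ∃ k ∈ HS w, (x : GL Z9 F) = Tf m * k := by
        let f : Fin 6156 × ↥(HS w) → ↥(GS w) := fun p =>
          ⟨Tf p.1 * p.2, Subgroup.mul_mem _ (hTf p.1) (HS_le w hw p.2.2)⟩
        have hf : Function.Injective f := fun p q h => by
          have e : Tf p.1 * (p.2 : GL Z9 F) = Tf q.1 * q.2 := congrArg Subtype.val h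
          obtain ⟨m, hm, em⟩ := coset_form w hw p.1.2 (x := Tf p.1 * p.2) p.2.2
            (by rw [Units.val_mul, hTv])
          obtain ⟨n, hn, en⟩ := coset_form w hw q.1.2 (x := Tf p.1 * p.2) q.2.2
            (by rw [e, Units.val_mul, hTv])
          rw [em, ← Matrix.smul_mul, ← Matrix.smul_mul, (isUnit_conjM _).mul_left_inj] at en
          have hs := crow_spec p.1.2
          have hs' := crow_spec q.1.2
          obtain ⟨a, ha⟩ := hs.2.2.2.2.2.2.1
          obtain ⟨b, hb⟩ := hs'.2.2.2.2.2.2.1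
          have e2 : toM w (cK p.1) = w ^ ((3 - m + n) % 3) • toM w (cK q.1) := by
            rw [← wpow_mod w hw, pow_add, ← smul_smul, ← en, smul_smul, ← pow_add,
              Nat.sub_add_cancel hm.le, w_cube hw, one_smul]
          have hkey := norm_eq hw (Nat.mod_lt _ (by norm_num)) hs.2.2.2.2.2.1 hs'.2.2.2.2.2.1 ha hb e2
          have e1 : p.1 = q.1 := Fin.ext (eq_of_increasing (fun i => keyB (cK i))
            (fun i hi => (crow_spec (by omega)).2.2.2.2.2.2.2.1 hi) p.1.2 q.1.2 (by rw [hkey]))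
          rw [e1, mul_left_cancel_iff] at e
          exact Prod.ext e1 (Subtype.ext e)
        obtain ⟨p, hp⟩ := ((Nat.bijective_iff_injective_and_card f).2 ⟨hf, by
          rw [Nat.card_prod, Nat.card_fin, card_HS w hw, card_GS w hw]⟩).2 x
        exact ⟨p.1, p.2, p.2.2, (congrArg Subtype.val hp).symm⟩
      obtain ⟨m, k, hk, ex⟩ := hdec
      have hx := hKmem (x⁻¹ * qG 1 * x) hg
      have hh : (Tf m)⁻¹ * qE 1 * Tf m ∈ HS w := by
        have h5 := mul_mem (mul_mem hk hx) (inv_mem hk)
        have h6 : ((x⁻¹ * qG 1 * x : GS w) : GL Z9 F) = (x : GL Z9 F)⁻¹ * qE 1 * x := rfl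
        rw [h6, ex] at h5
        have h7 : k * ((Tf m * k)⁻¹ * qE 1 * (Tf m * k)) * k⁻¹ = (Tf m)⁻¹ * qE 1 * Tf m := by group
        rwa [h7] at h5
      obtain ⟨n, hn, en⟩ := coset_form w hw m.2 (x := qE 1 * Tf m) hh (by
        rw [← hTv, ← Units.val_mul]
        exact congrArg Units.val (by group))
      obtain ⟨c, hc, ec⟩ := (crow_spec m.2).2.2.2.2.1
      have e1 : (Tf m : Matrix Z9 Z9 F) * toM w formX =
          w ^ c • (toM w (cK m) * conjM (Tf m : Matrix Z9 Z9 F)) := by
        rw [hTv, ← toM_bmul w hw, ec, toM_bmul w hw, toM_smulB hw _ hc, toM_conjB hw, Matrix.smul_mul]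
        rfl
      rw [Units.val_mul, mul_assoc, e1, Matrix.mul_smul, conjM_mul, ← mul_assoc, ← mul_assoc] at en
      simp only [← Matrix.smul_mul] at en
      rw [(isUnit_conjM _).mul_left_inj] at en
      simp only [Matrix.smul_mul] at en
      have hinv : w ^ (3 - c) * w ^ c = 1 := by rw [← pow_add, Nat.sub_add_cancel hc.le, w_cube hw]
      have e2 : toM w (bmul tB (crow m.val).K) =
          toM w (smulB ((3 - c + n) % 3) (bmul (crow m.val).K (conjB tB))) := by
        rw [toM_smulB hw _ (Nat.mod_lt _ (by norm_num)), ← wpow_mod w hw, toM_bmul w hw,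
          toM_bmul w hw, toM_conjB hw, pow_add, ← smul_smul]
        have e3 : toM w tB = (qE 1 : Matrix Z9 Z9 F) := (hqv 1).symm
        rw [e3]
        calc (qE 1 : Matrix Z9 Z9 F) * toM w (cK m)
            = w ^ (3 - c) • w ^ c • ((qE 1 : Matrix Z9 Z9 F) * toM w (cK m)) := by
              rw [smul_smul, hinv, one_smul]
          _ = _ := by rw [en]; rfl
      have e4 := toM_inj hw (goodB_bmul _ _) (goodB_smulB _ (goodB_bmul _ _)) e2
      have hf := frow_of_lt m.2
      simp only [fRowB, Bool.or_eq_true] at hf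
      have hmem : m.val ∈ fixPts := by
        rcases hf with hf | hf
        · obtain ⟨a, ha, hb⟩ := List.any_eq_true.1 hf
          exact eq_of_beq' hb ▸ ha
        · exfalso
          rw [e4] at hf
          have hr : ∀ A : BM, beqB A A = true := fun A => by simp [beqB]
          have hlt : (3 - c + n) % 3 < 3 := Nat.mod_lt _ (by norm_num)
          interval_cases (3 - c + n) % 3
          · rw [show smulB 0 (bmul (crow m.val).K (conjB tB)) = bmul (crow m.val).K (conjB tB) from rfl,
              hr] at hf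
            simp at hf
          · rw [hr] at hf; simp at hf
          · rw [hr] at hf; simp at hf
      obtain ⟨a, ha, hget⟩ := List.getElem_of_mem hmem
      have ha' : a < 76 := small_check.1.2.2.1 ▸ ha
      refine ⟨⟨a, ha'⟩, π ⟨k, HS_le w hw hk⟩, Subgroup.mem_map_of_mem π (Subgroup.mem_subgroupOf.2 hk), ?_⟩
      rw [← map_mul]
      refine congrArg π (Subtype.ext ?_)
      show (x : GL Z9 F) = Tf _ * k
      rw [ex]
      congr 2
      exact Fin.ext (by
        show m.val = fixPts.getD a 0 % 6156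
        rw [List.getD_eq_getElem _ _ ha, hget, Nat.mod_eq_of_lt m.2])
  · intro a b e
    obtain ⟨f, hf, ef⟩ := mk_eq_mk w hw e
    have hsq : ∀ n, ((yE n : GL Z9 F) : Matrix Z9 Z9 F) * (yE n : Matrix Z9 Z9 F) = 1 := fun n => by
      rw [hyv, ← toM_bmul w hw]
      exact (congrArg (toM w) (beqB_eq (hir n).1.1.2)).trans (toM_oneB)
    have ef' : (yE b : Matrix Z9 Z9 F) = w ^ f • (yE a : Matrix Z9 Z9 F) := ef
    have h1 := hsq b
    rw [ef', Matrix.smul_mul, Matrix.mul_smul, smul_smul, hsq] at h1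
    have h2 : w ^ f * w ^ f = 1 := by simpa using congrFun (congrFun h1 0) 0
    have hf0 : f = 0 := by
      interval_cases f
      · rfl
      · exfalso
        rw [pow_one, ← pow_two, w_sq hw] at h2
        exact w_ne_zero hw (by linear_combination h2)
      · exfalso
        rw [← pow_add, show 2 + 2 = 3 + 1 from rfl, pow_succ, w_cube hw, one_mul] at h2
        exact w_ne_one hw h2
    rw [hf0, pow_zero, one_smul] at ef'
    have h5 : iB a.val = iB b.val := toM_inj hw (hir a).1.1.1.2 (hir b).1.1.1.2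
      (((hyv a).symm.trans ef'.symm).trans (hyv b))
    exact Fin.ext (eq_of_increasing (fun n => keyB (iB n)) (fun n hn => by
      have h6 := (hir ⟨n, by omega⟩).2
      rw [beq_false_of_ne (by show n + 1 ≠ 323; omega), Bool.false_or] at h6
      exact lt_of_blt h6) a.2 b.2 (by rw [h5]))
  · intro n e
    have h2 : yG n ^ 128 = 1 := by
      have h2' : yG n * yG n = 1 := GS_ext w hw (A := oneB) (by
        show ((yE n * yE n : GL Z9 F) : Matrix Z9 Z9 F) = _
        rw [Units.val_mul, hyv, ← toM_bmul w hw]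
        exact congrArg (toM w) (beqB_eq (hir n).1.1.2)) (by simp [toM_oneB])
      rw [show 128 = 2 * 64 from rfl, pow_mul, pow_two, h2', one_pow]
    have h1 := mk_eq_one_of_sq w hw h2 e
    have h5 : iB n.val = oneB := toM_inj hw (hir n).1.1.1.2 scal_good.1
      (((hyv n).symm.trans (congrArg (fun g : GS w => ((g : GL Z9 F) : Matrix Z9 Z9 F)) h1)).trans
        (by simp [toM_oneB]))
    have h6 := (hir n).1.2
    rw [h5] at h6
    simp [beqB] at h6

/-- the certificate facts hold in the group of the definitions -/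
theorem nonempty_invCert : Nonempty (InvCert (Cfsg.Spor.J3 F w)) := by
  show Nonempty (InvCert (Cfsg.Spor.threeJ3 F w ⧸ Subgroup.center (Cfsg.Spor.threeJ3 F w)))
  rw [threeJ3_eq w hw]
  exact exists_invCert w hw

end Cfsg.Agent.SporB.J3
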