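import Cfsg.Agent.SporB.J3.OutChecks
import Cfsg.Agent.SporB.J3.Inv

set_option autoImplicit false

/-! The certificate for the automorphisms holds in the group of the definitions. -/

namespace Cfsg.Agent.SporB.J3.OutAut

open scoped MatrixGroups

local notation "Z9" => ZMod 3 × ZMod 3

variable {F : Type*} [Field F] (w : F) [Finite F] [CharP F 2] (hw : w ^ 2 + w + 1 = 0)

include hw

theorem mk_eq_of_smul {x y : GS w} (c : F)
    (h : ((y : GL Z9 F) : Matrix Z9 Z9 F) = c • ((x : GL Z9 F) : Matrix Z9 Z9 F)) :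
    (x : GS w ⧸ Subgroup.center (GS w)) = y := by
  refine QuotientGroup.eq.2 (Subgroup.mem_center_iff.2 fun g => Subtype.ext (Units.ext ?_))
  have e : ((x⁻¹ * y : GS w) : GL Z9 F).val = c • (1 : Matrix Z9 Z9 F) := by
    rw [Subgroup.coe_mul, Units.val_mul, h, Subgroup.coe_inv, Matrix.mul_smul]
    congr 1
    exact Units.inv_mul _
  show ((g : GL Z9 F) : Matrix Z9 Z9 F) * _ = _ * ((g : GL Z9 F) : Matrix Z9 Z9 F)
  rw [e]
  simp

theorem eq_one_of_scalB {x : GS w} {A : BM} (hx : ((x : GL Z9 F) : Matrix Z9 Z9 F) = toM w A)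
    (h : scalB A = true) : (x : GS w ⧸ Subgroup.center (GS w)) = 1 := by
  obtain ⟨f, hf, ef⟩ : ∃ f < 3, A = smulB f oneB := by
    simp only [scalB, Bool.or_eq_true] at h
    rcases h with (h | h) | h
    · exact ⟨0, by norm_num, beqB_eq h⟩
    · exact ⟨1, by norm_num, beqB_eq h⟩
    · exact ⟨2, by norm_num, beqB_eq h⟩
  refine (mk_eq_of_smul w hw (x := 1) (y := x) (w ^ f) ?_).symm
  rw [hx, ef, toM_smulB hw f hf, toM_oneB]
  simp

theorem scalB_of_eq_one {x : GS w} {A : BM} (hx : ((x : GL Z9 F) : Matrix Z9 Z9 F) = toM w A)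
    (hA : goodB A = true) (h : (x : GS w ⧸ Subgroup.center (GS w)) = 1) : scalB A = true := by
  obtain ⟨f, hf, ef⟩ := mk_eq_mk w hw (x := 1) (y := x) h.symm
  rw [hx, show (((1 : GS w) : GL Z9 F) : Matrix Z9 Z9 F) = toM w oneB by simp [toM_oneB],
    ← toM_smulB hw f hf] at ef
  rw [toM_inj hw hA (goodB_smulB f scal_good.1) ef]
  interval_cases f
  · rw [show smulB 0 oneB = oneB from rfl]; exact scal_good.2.1
  · exact scal_good.2.2.1
  · exact scal_good.2.2.2

theorem elB_mul (a b : CI) : toM w (elB a) * toM w (elB b) = toM w (elB (cm a b)) := by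
  have hqr : ∀ i : Fin 32, qRowB i.val = true := fun i =>
    allB_spec qrows_check (Nat.zero_le _) (by simp)
  have hhr : ∀ i : Fin 60, hRowB i.val = true := fun i =>
    allB_spec hrows_check (Nat.zero_le _) (by simp)
  simp only [qRowB, Bool.and_eq_true, List.all_eq_true, List.mem_range] at hqr
  simp only [hRowB, Bool.and_eq_true, List.all_eq_true, List.mem_range] at hhr
  have hk := c_closed a.2 b.1
  have e1 := beqB_eq ((hhr a.2).2 b.1.val b.1.2).2
  have e2 := beqB_eq ((hqr a.1).2 _ hk).1.2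
  have e3 := beqB_eq ((hhr a.2).1.2 b.2.val b.2.2).2
  have hq : qM a.1.val (hC a.2.val b.1.val) < 32 := q_closed a.1 ⟨_, hk⟩
  have hh := h_closed a.2 b.2
  rw [elB, elB, elB]
  simp only [cm, Nat.mod_eq_of_lt hq, Nat.mod_eq_of_lt hh]
  rw [← e2, ← e3]
  simp only [toM_bmul w hw]
  have e1' := congrArg (toM w) e1
  simp only [toM_bmul w hw] at e1'
  calc toM w (qB a.1.val) * toM w (hB a.2.val) * (toM w (qB b.1.val) * toM w (hB b.2.val))
      = toM w (qB a.1.val) * (toM w (hB a.2.val) * toM w (qB b.1.val)) * toM w (hB b.2.val) := by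
        simp only [mul_assoc]
    _ = _ := by rw [e1']; simp only [mul_assoc]

theorem elB_mem (a : CI) : InS w (GS w) (elB a) := by
  have hqr : qRowB a.1.val = true := allB_spec qrows_check (Nat.zero_le _) (by simp)
  have hhr : hRowB a.2.val = true := allB_spec hrows_check (Nat.zero_le _) (by simp)
  simp only [qRowB, Bool.and_eq_true] at hqr
  simp only [hRowB, Bool.and_eq_true] at hhr
  exact inS_mul w hw (witOK_mem w hw hqr.1.1) (witOK_mem w hw hhr.1.1.1)

theorem uT_mem : InS w (GS w) uT :=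
  inS_mul w hw (cT_mem w hw 1492 (by norm_num))
    (inS_mono w (HS_le w hw) (US_mem w hw (a := 56) (k := 13) (by norm_num) (by norm_num)))

theorem exists_cert : Nonempty (Cert (GS w ⧸ Subgroup.center (GS w))) := by
  obtain ⟨c⟩ := exists_invCert w hw
  let π : GS w →* GS w ⧸ Subgroup.center (GS w) := QuotientGroup.mk' _
  choose eE heE hev using fun a : CI => elB_mem w hw a
  obtain ⟨uE, huE, huv⟩ := uT_mem w hw
  let eG : CI → GS w := fun a => ⟨eE a, heE a⟩
  let uG : GS w := ⟨uE, huE⟩
  have he : ∀ a, ((eG a : GL Z9 F) : Matrix Z9 Z9 F) = toM w (elB a) := hev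
  have hu : ((uG : GL Z9 F) : Matrix Z9 Z9 F) = toM w uT := huv
  have hmul : ∀ a b, eG a * eG b = eG (cm a b) := fun a b =>
    GS_ext w hw (A := elB (cm a b)) (by
      rw [Subgroup.coe_mul, Units.val_mul, he, he, elB_mul w hw]) (he _)
  have hgood : ∀ a, goodB (elB a) = true := fun a => goodB_bmul _ _
  let el : CI → GS w ⧸ Subgroup.center (GS w) := fun a => π (eG a)
  have elmul : ∀ a b, el a * el b = el (cm a b) := fun a b => by
    show π _ * π _ = π _
    rw [← map_mul, hmul]
  have elker : ∀ a, el a = 1 → a = (0, 0) := by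
    intro a h
    have hs := scalB_of_eq_one w hw (he a) (hgood a) h
    by_contra hne
    have hn := allB_spec ker_check (i := 60 * a.1.val + a.2.val) (Nat.zero_le _)
      (by have := a.1.2; have := a.2.2; omega)
    have hm : mkC ((60 * a.1.val + a.2.val) / 60) ((60 * a.1.val + a.2.val) % 60) = a := by
      have := a.1.2; have := a.2.2
      simp only [mkC, Prod.ext_iff, Fin.ext_iff]
      omega
    simp only [kerB, hm, hs, Bool.not_true, Bool.or_false, Nat.beq_eq] at hn
    exact hne (Prod.ext (Fin.ext (show a.1.val = 0 by omega)) (Fin.ext (show a.2.val = 0 by omega)))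
  have el0 : el (0, 0) = 1 := by
    have h := elmul (0, 0) (0, 0)
    rw [show cm (0, 0) (0, 0) = ((0, 0) : CI) by decide +kernel] at h
    exact left_eq_mul.1 h.symm
  have t2 : el cT₀ * el cT₀ = 1 := by rw [elmul, t_order.1, el0]
  have tne : el cT₀ ≠ 1 := fun e => t_order.2 (elker _ e)
  obtain ⟨g₀, hg₀⟩ := c.one_class t2 tne
  have upow : ∀ (x : GS w) (A : BM), ((x : GL Z9 F) : Matrix Z9 Z9 F) = toM w A →
      (((x ^ 6 : GS w) : GL Z9 F) : Matrix Z9 Z9 F) = toM w (powB A 6) := fun x A e => by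
    rw [SubgroupClass.coe_pow, Units.val_pow_eq_pow_val, e, powB_spec w hw]
  obtain ⟨cu1, cu2, cu3, cu4, cu5⟩ := u_check
  have bad : ∀ k : CI, scalB (powB (bmul uT (elB k)) 6) = true → (π uG * el k) ^ 6 = 1 := by
    intro k h
    show (π uG * π (eG k)) ^ 6 = 1
    rw [← map_mul, ← map_pow]
    exact eq_one_of_scalB w hw (upow _ _ (by
      rw [Subgroup.coe_mul, Units.val_mul, hu, he, toM_bmul w hw])) h
  refine ⟨{
    el := el
    el_mul := elmul
    el_ker := elker
    cls := fun x h2 h1 => by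
      obtain ⟨g, hg⟩ := c.one_class h2 h1
      refine ⟨g * g₀⁻¹, ?_⟩
      rw [← hg₀, ← hg]
      group
    card_C_le := ?_
    card_J := card_quotient w hw
    t_el := fun a => by rw [elmul, elmul, t_comm_check]
    u := π uG
    u_r := by
      show π (eG cT₀) * π uG = π uG * π (eG cR)
      rw [← map_mul, ← map_mul]
      refine congrArg π (Subtype.ext (Units.ext ?_))
      rw [Subgroup.coe_mul, Subgroup.coe_mul, Units.val_mul, Units.val_mul, hu, he, he,
        ← toM_bmul w hw, ← toM_bmul w hw, beqB_eq cu1]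
    u_t := ⟨(11, 0), by
      show π uG * π (eG cT₀) = π (eG (11, 0)) * π uG
      rw [← map_mul, ← map_mul]
      refine congrArg π (Subtype.ext (Units.ext ?_))
      rw [Subgroup.coe_mul, Subgroup.coe_mul, Units.val_mul, Units.val_mul, hu, he, he,
        ← toM_bmul w hw, ← toM_bmul w hw, beqB_eq cu2]⟩
    u_six := fun h => by
      have := scalB_of_eq_one w hw (upow _ _ hu) (goodB_bmul _ _) (by rw [← h]; rfl)
      rw [this] at cu3
      exact Bool.noConfusion cu3
    u_bad1 := bad _ cu4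
    u_bad2 := bad _ cu5
    gen := ?_ }⟩
  · refine le_trans ?_ c.card_C_le
    refine Nat.card_le_card_of_injective (fun x => ⟨g₀⁻¹ * x.1 * g₀, ?_⟩) fun x y h => ?_
    · rw [Subgroup.mem_centralizer_singleton_iff]
      obtain ⟨x, hx'⟩ := x
      have hx := Subgroup.mem_centralizer_singleton_iff.1 hx'
      show g₀⁻¹ * x * g₀ * c.q 1 = c.q 1 * (g₀⁻¹ * x * g₀)
      calc g₀⁻¹ * x * g₀ * c.q 1 = g₀⁻¹ * (x * (g₀ * c.q 1 * g₀⁻¹)) * g₀ := by group
        _ = g₀⁻¹ * (el cT₀ * x) * g₀ := by rw [hg₀, hx]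
        _ = _ := by rw [← hg₀]; group
    · exact Subtype.ext (mul_left_cancel (mul_right_cancel (congrArg Subtype.val h)))
  · set K := Subgroup.closure (Set.range el ∪ {π uG}) with hK
    have hword : ∀ l : List ℕ, ∃ x : GS w,
        ((x : GL Z9 F) : Matrix Z9 Z9 F) = toM w (wordB l) ∧ π x ∈ K := by
      intro l
      suffices h : ∀ A : BM, (∃ x : GS w, ((x : GL Z9 F) : Matrix Z9 Z9 F) = toM w A ∧ π x ∈ K) →
          ∃ x : GS w, ((x : GL Z9 F) : Matrix Z9 Z9 F) =
            toM w (l.foldl (fun r k => bmul r (pick3 (elB cA) (elB cB) uT k)) A) ∧ π x ∈ K from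
        h oneB ⟨1, by simp [toM_oneB], by rw [map_one]; exact one_mem _⟩
      induction l with
      | nil => exact fun A h => h
      | cons k l ih =>
        intro A ⟨x, ex, hx⟩
        simp only [List.foldl_cons]
        refine ih _ ?_
        rcases pick3_mem (elB cA) (elB cB) uT k with e | e | e <;> rw [e]
        · exact ⟨x * eG cA, by rw [Subgroup.coe_mul, Units.val_mul, ex, he, toM_bmul w hw],
            by rw [map_mul]; exact mul_mem hx (Subgroup.subset_closure (Or.inl ⟨cA, rfl⟩))⟩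
        · exact ⟨x * eG cB, by rw [Subgroup.coe_mul, Units.val_mul, ex, he, toM_bmul w hw],
            by rw [map_mul]; exact mul_mem hx (Subgroup.subset_closure (Or.inl ⟨cB, rfl⟩))⟩
        · exact ⟨x * uG, by rw [Subgroup.coe_mul, Units.val_mul, ex, hu, toM_bmul w hw],
            by rw [map_mul]; exact mul_mem hx (Subgroup.subset_closure (Or.inr rfl))⟩
    have hgen : ∀ n, genB n = true → InS w ((K.comap π).map (GS w).subtype) (pick3 gen0 gen1 gen2 n) := by
      intro n h
      have hp : InS w (GS w) (pick3 gen0 gen1 gen2 n) := by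
        rcases pick3_mem gen0 gen1 gen2 n with e | e | e <;> rw [e]
        exacts [(gens_mem w hw).1, (gens_mem w hw).2.1, (gens_mem w hw).2.2]
      obtain ⟨g, hg, eg⟩ := hp
      simp only [genB, Bool.and_eq_true] at h
      obtain ⟨x, ex, hx⟩ := hword (genWords.getD n ([], 0, 0, 3)).1
      set z := mkC (genWords.getD n ([], 0, 0, 3)).2.1 (genWords.getD n ([], 0, 0, 3)).2.2.1 with hz
      refine ⟨g, ⟨⟨g, hg⟩, ?_, rfl⟩, eg⟩
      show π ⟨g, hg⟩ ∈ K
      have e : π (x * eG z) = π ⟨g, hg⟩ := mk_eq_of_smul w hw _ (by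
        show g.val = _
        rw [Subgroup.coe_mul, Units.val_mul, ex, he, eg, ← toM_bmul w hw, hz,
          ← toM_smulB hw _ (lt_of_blt h.1)]
        exact congrArg (toM w) (beqB_eq h.2))
      rw [← e, map_mul]
      exact mul_mem hx (Subgroup.subset_closure (Or.inl ⟨z, rfl⟩))
    have hle : GS w ≤ (K.comap π).map (GS w).subtype :=
      gen3S_le w (hgen 0 gen_check.1) (hgen 1 gen_check.2.1) (hgen 2 gen_check.2.2)
    refine eq_top_iff.2 fun q _ => ?_
    induction q using QuotientGroup.induction_on with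
    | _ g =>
      obtain ⟨y, hy, e⟩ := hle g.2
      rw [show g = y from Subtype.ext e.symm]
      exact hy

theorem nonempty_cert : Nonempty (Cert (Cfsg.Spor.J3 F w)) := by
  show Nonempty (Cert (Cfsg.Spor.threeJ3 F w ⧸ Subgroup.center (Cfsg.Spor.threeJ3 F w)))
  rw [threeJ3_eq w hw]
  exact exists_cert w hw

end Cfsg.Agent.SporB.J3.OutAut
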