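import Mathlib

set_option autoImplicit false

/-!
Packed 9 x 9 matrices over the field with four elements: a pair of 81-bit numbers, entry `(i, j)` being
`lo + hi * w`.  Products use the fact that spreading one bit per row and multiplying by a 9-bit row
is an outer product without carries.
-/

namespace Cfsg.Agent.SporB.J3

/-- the packed matrix -/
structure BM where
  (lo hi : ℕ)

/-- one bit in each of the nine rows -/
def rowMask : ℕ := 4731607904558235517441

def colAt (x k : ℕ) : ℕ := (x >>> k) &&& rowMask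

def rowOf (x k : ℕ) : ℕ := (x >>> (9 * k)) &&& 511

def termLo (A B : BM) (k : ℕ) : ℕ :=
  colAt A.lo k * rowOf B.lo k ^^^ colAt A.hi k * rowOf B.hi k

def termHi (A B : BM) (k : ℕ) : ℕ :=
  colAt A.lo k * rowOf B.hi k ^^^ colAt A.hi k * (rowOf B.lo k ^^^ rowOf B.hi k)

def bmul (A B : BM) : BM :=
  ⟨termLo A B 0 ^^^ termLo A B 1 ^^^ termLo A B 2 ^^^ termLo A B 3 ^^^ termLo A B 4 ^^^ termLo A B 5
      ^^^ termLo A B 6 ^^^ termLo A B 7 ^^^ termLo A B 8,
   termHi A B 0 ^^^ termHi A B 1 ^^^ termHi A B 2 ^^^ termHi A B 3 ^^^ termHi A B 4 ^^^ termHi A B 5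
      ^^^ termHi A B 6 ^^^ termHi A B 7 ^^^ termHi A B 8⟩

def beqB (A B : BM) : Bool := Nat.beq A.lo B.lo && Nat.beq A.hi B.hi

theorem beqB_eq {A B : BM} (h : beqB A B = true) : A = B := by
  cases A; cases B
  simp only [beqB, Bool.and_eq_true, Nat.beq_eq] at h
  simp [h]

/-- the mask with `n` bits spaced by nine -/
def maskN : ℕ → ℕ
  | 0 => 0
  | n + 1 => 1 + 512 * maskN n

theorem maskN_nine : maskN 9 = rowMask := by decide +kernel

theorem land_maskN_succ (y n : ℕ) :
    y &&& maskN (n + 1) = y % 2 + 512 * ((y >>> 9) &&& maskN n) := by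
  apply Nat.eq_of_testBit_eq
  intro i
  have h1 : (1 : ℕ) < 2 ^ 9 := by norm_num
  have h2 : y % 2 < 2 ^ 9 := by omega
  have e1 : maskN (n + 1) = 2 ^ 9 * maskN n + 1 := by
    show 1 + 512 * maskN n = _
    norm_num; ring
  have e2 : y % 2 + 512 * ((y >>> 9) &&& maskN n) = 2 ^ 9 * ((y >>> 9) &&& maskN n) + y % 2 := by
    norm_num; ring
  rw [Nat.testBit_and, e1, e2, Nat.testBit_two_pow_mul_add _ h1, Nat.testBit_two_pow_mul_add _ h2]
  by_cases hi : i < 9
  · simp only [hi, if_true]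
    rcases Nat.eq_zero_or_pos i with rfl | hpos
    · simp [Nat.testBit_zero]
    · have : Nat.testBit 1 i = false := Nat.testBit_lt_two_pow (by
        calc (1 : ℕ) < 2 ^ 1 := by norm_num
          _ ≤ 2 ^ i := Nat.pow_le_pow_right (by norm_num) hpos)
      have h3 : Nat.testBit (y % 2) i = false := Nat.testBit_lt_two_pow (by
        calc y % 2 < 2 ^ 1 := by omega
          _ ≤ 2 ^ i := Nat.pow_le_pow_right (by norm_num) hpos)
      rw [this, h3, Bool.and_false]
  · simp only [hi, if_false]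
    rw [Nat.testBit_and, Nat.testBit_shiftRight, show 9 + (i - 9) = i by omega]

theorem testBit_spread_mul {r : ℕ} (hr : r < 512) :
    ∀ (n y i j : ℕ), i < n → j < 9 →
      Nat.testBit ((y &&& maskN n) * r) (9 * i + j) = (Nat.testBit y (9 * i) && Nat.testBit r j) := by
  intro n
  induction n with
  | zero => intro y i j hi; omega
  | succ n ih =>
    intro y i j hi hj
    have hlow : y % 2 * r < 2 ^ 9 := by
      rcases Nat.mod_two_eq_zero_or_one y with h | h <;> rw [h] <;> simp <;> omega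
    rw [land_maskN_succ, show (y % 2 + 512 * ((y >>> 9) &&& maskN n)) * r
      = 2 ^ 9 * (((y >>> 9) &&& maskN n) * r) + y % 2 * r by norm_num; ring,
      Nat.testBit_two_pow_mul_add _ hlow]
    rcases Nat.eq_zero_or_pos i with rfl | hpos
    · simp only [Nat.mul_zero, Nat.zero_add, hj, if_true]
      rcases Nat.mod_two_eq_zero_or_one y with h | h <;> simp [h, Nat.testBit_zero]
    · rw [if_neg (by omega), show 9 * i + j - 9 = 9 * (i - 1) + j by omega, ih _ _ _ (by omega) hj,
        Nat.testBit_shiftRight, show 9 + 9 * (i - 1) = 9 * i by omega]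

theorem rowOf_lt (x k : ℕ) : rowOf x k < 512 := Nat.lt_of_le_of_lt Nat.and_le_right (by norm_num)

theorem testBit_rowOf (x k : ℕ) {j : ℕ} (hj : j < 9) :
    Nat.testBit (rowOf x k) j = Nat.testBit x (9 * k + j) := by
  rw [rowOf, Nat.testBit_and, Nat.testBit_shiftRight,
    show (511 : ℕ) = 2 ^ 9 - 1 by norm_num, Nat.testBit_two_pow_sub_one]
  simp [hj]

theorem testBit_outer (x : ℕ) {r : ℕ} (hr : r < 512) (k : ℕ) {i j : ℕ} (hi : i < 9) (hj : j < 9) :
    Nat.testBit (colAt x k * r) (9 * i + j) = (Nat.testBit x (9 * i + k) && Nat.testBit r j) := by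
  rw [colAt, ← maskN_nine, testBit_spread_mul hr 9 _ i j hi hj, Nat.testBit_shiftRight,
    Nat.add_comm k]

variable {F : Type*} [Field F] (w : F)

/-- a bit as a field element -/
def bitF (F : Type*) [Field F] (b : Bool) : F := bif b then 1 else 0

theorem bitF_xor [CharP F 2] (a b : Bool) : bitF F (xor a b) = bitF F a + bitF F b := by
  cases a <;> cases b <;> simp [bitF, CharTwo.add_self_eq_zero]

theorem bitF_and (a b : Bool) : bitF F (a && b) = bitF F a * bitF F b := by
  cases a <;> cases b <;> simp [bitF]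

/-- the index of an element of the field with nine elements -/
def ix (z : ZMod 3 × ZMod 3) : ℕ := 3 * z.1.val + z.2.val

theorem ix_lt (z : ZMod 3 × ZMod 3) : ix z < 9 := by
  have := ZMod.val_lt z.1; have := ZMod.val_lt z.2
  unfold ix; omega

/-- decoding a packed matrix -/
def toM (A : BM) : Matrix (ZMod 3 × ZMod 3) (ZMod 3 × ZMod 3) F :=
  Matrix.of fun i j => bitF F (Nat.testBit A.lo (9 * ix i + ix j)) +
    bitF F (Nat.testBit A.hi (9 * ix i + ix j)) * w

theorem sum_pairs (f : ZMod 3 × ZMod 3 → F) :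
    ∑ z, f z = f (0, 0) + f (0, 1) + f (0, 2) + f (1, 0) + f (1, 1) + f (1, 2) + f (2, 0) + f (2, 1)
      + f (2, 2) := by
  rw [Fintype.sum_prod_type]
  show ∑ x : Fin 3, ∑ y : Fin 3, f (x, y) = _
  simp only [Fin.sum_univ_three]
  simp only [← add_assoc]
  rfl

theorem toM_bmul [CharP F 2] (hw : w ^ 2 + w + 1 = 0) (A B : BM) :
    toM w (bmul A B) = toM w A * toM w B := by
  have hw2 : w * w = 1 + w := by
    have : w * w + (1 + w) = 0 := by rw [← hw]; ring
    exact CharTwo.add_eq_zero.1 this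
  ext i j
  have hi := ix_lt i
  have hj := ix_lt j
  have key : ∀ k < 9,
      bitF F (Nat.testBit (termLo A B k) (9 * ix i + ix j)) +
        bitF F (Nat.testBit (termHi A B k) (9 * ix i + ix j)) * w =
      (bitF F (Nat.testBit A.lo (9 * ix i + k)) + bitF F (Nat.testBit A.hi (9 * ix i + k)) * w) *
      (bitF F (Nat.testBit B.lo (9 * k + ix j)) + bitF F (Nat.testBit B.hi (9 * k + ix j)) * w) := by
    intro k _
    have hx : rowOf B.lo k ^^^ rowOf B.hi k < 512 := Nat.xor_lt_two_pow (n := 9) (rowOf_lt _ _) (rowOf_lt _ _)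
    simp only [termLo, termHi, Nat.testBit_xor, testBit_outer _ (rowOf_lt _ _) k hi hj,
      testBit_outer _ hx k hi hj, testBit_rowOf _ _ hj, bitF_xor, bitF_and]
    generalize bitF F (Nat.testBit A.lo (9 * ix i + k)) = a
    generalize bitF F (Nat.testBit A.hi (9 * ix i + k)) = b
    generalize bitF F (Nat.testBit B.lo (9 * k + ix j)) = c
    generalize bitF F (Nat.testBit B.hi (9 * k + ix j)) = d
    linear_combination (-(b * d)) * hw2
  simp only [Matrix.mul_apply, toM, Matrix.of_apply, sum_pairs, bmul, Nat.testBit_xor, bitF_xor]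
  have e : ix ((0, 0) : ZMod 3 × ZMod 3) = 0 ∧ ix ((0, 1) : ZMod 3 × ZMod 3) = 1 ∧
      ix ((0, 2) : ZMod 3 × ZMod 3) = 2 ∧ ix ((1, 0) : ZMod 3 × ZMod 3) = 3 ∧
      ix ((1, 1) : ZMod 3 × ZMod 3) = 4 ∧ ix ((1, 2) : ZMod 3 × ZMod 3) = 5 ∧
      ix ((2, 0) : ZMod 3 × ZMod 3) = 6 ∧ ix ((2, 1) : ZMod 3 × ZMod 3) = 7 ∧
      ix ((2, 2) : ZMod 3 × ZMod 3) = 8 := by decide
  obtain ⟨a0, a1, a2, a3, a4, a5, a6, a7, a8⟩ := e
  rw [a0, a1, a2, a3, a4, a5, a6, a7, a8]
  linear_combination key 0 (by omega) + key 1 (by omega) + key 2 (by omega) + key 3 (by omega) +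
    key 4 (by omega) + key 5 (by omega) + key 6 (by omega) + key 7 (by omega) + key 8 (by omega)

end Cfsg.Agent.SporB.J3
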