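import Cfsg.Agent.SporB.J3.Group

set_option autoImplicit false

/-! The centre of the matrix group and the simplicity of the quotient. -/

namespace Cfsg.Agent.SporB.J3

open scoped MatrixGroups

local notation "Z9" => ZMod 3 × ZMod 3

variable {F : Type*} [Field F] (w : F) [Finite F] [CharP F 2] (hw : w ^ 2 + w + 1 = 0)

include hw

/-- the element of order seventeen -/
theorem exists_u : ∃ u : GL Z9 F, u ∈ HS w ∧ (u : Matrix Z9 Z9 F) = toM w uB ∧ orderOf u = 17 := by
  obtain ⟨-, -, -, -, -, ha, hk, -⟩ := index_check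
  obtain ⟨u, hu, eu⟩ := US_mem w hw ha hk
  have eu' : (u : Matrix Z9 Z9 F) = toM w uB := by rw [eu, consts.uH]; rfl
  haveI : Fact (Nat.Prime 17) := ⟨by norm_num⟩
  refine ⟨u, hu, eu', orderOf_eq_prime (Units.ext ?_) fun h1 => ?_⟩
  · rw [Units.val_pow_eq_pow_val, eu', ← powB_spec w hw, consts.upow, toM_oneB, Units.val_one]
  · have e : toM w uB = toM w oneB := by rw [← eu', h1, Units.val_one, toM_oneB]
    have hg : goodB uB = true := by decide +kernel
    have hg1 : goodB oneB = true := by decide +kernel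
    have := consts.une
    rw [toM_inj hw hg hg1 e] at this
    simp [beqB] at this

/-- the scalar of order three -/
theorem exists_sc : ∃ s : GL Z9 F, s ∈ HS w ∧ (∀ x : GL Z9 F, s * x = x * s) ∧ orderOf s = 3 := by
  obtain ⟨-, -, -, -, -, -, -, ha, hk, -⟩ := index_check
  obtain ⟨s, hs, es⟩ := US_mem w hw ha hk
  have es' : (s : Matrix Z9 Z9 F) = w • (1 : Matrix Z9 Z9 F) := by
    rw [es, show bmul (vU wA) (sS wK) = scalW from consts.wH.symm, consts.wval,
      toM_smulB hw 1 (by norm_num), toM_oneB, pow_one]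
  haveI : Fact (Nat.Prime 3) := ⟨by norm_num⟩
  refine ⟨s, hs, fun x => Units.ext ?_, orderOf_eq_prime (Units.ext ?_) fun h1 => ?_⟩
  · rw [Units.val_mul, Units.val_mul, es', Matrix.smul_mul, Matrix.mul_smul, one_mul, mul_one]
  · rw [Units.val_pow_eq_pow_val, es', smul_pow, one_pow, w_cube hw, one_smul, Units.val_one]
  · have e := congrFun (congrFun ((es'.symm.trans (by rw [h1, Units.val_one])) :
      w • (1 : Matrix Z9 Z9 F) = 1) 0) 0
    simp only [Matrix.smul_apply, Matrix.one_apply_eq, smul_eq_mul, mul_one] at e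
    exact w_ne_one hw e

/-- the class of the element of order seventeen in the large subgroup -/
theorem class_mem {u : GL Z9 F} (eu : (u : Matrix Z9 Z9 F) = toM w uB) :
    ∀ d < 480, ∃ y ∈ HS w, ((y * u * y⁻¹ : GL Z9 F) : Matrix Z9 Z9 F) = toM w (xC d) := by
  suffices h : ∀ n, ∀ d < 480, (xrow d).dep < n →
      ∃ y ∈ HS w, ((y * u * y⁻¹ : GL Z9 F) : Matrix Z9 Z9 F) = toM w (xC d) from
    fun d hd => h _ d hd (Nat.lt_succ_self _)
  intro n
  induction n with
  | zero => intro i _ h; omega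
  | succ n ih =>
    intro d hd hlt
    by_cases hb : d = xBase
    · subst hb
      exact ⟨1, one_mem _, by rw [one_mul, inv_one, mul_one, eu, xC, consts.xbase]⟩
    obtain ⟨p, hp, hdp, g, hg, e⟩ := (xrow_spec hd).2.2.1 hb
    obtain ⟨y, hy, ey⟩ := ih p hp (by omega)
    have hgm : InS w (HS w) g := by
      rcases hg with rfl | rfl
      exacts [(lgens_mem_HS w hw).1, (lgens_mem_HS w hw).2]
    obtain ⟨z, hz, ez⟩ := hgm
    refine ⟨z * y, mul_mem hz hy, ?_⟩
    have hzy : (z * y) * u * (z * y)⁻¹ = z * (y * u * y⁻¹) * z⁻¹ := by group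
    rw [hzy, Units.val_mul, Units.val_mul, ey, ez, ← toM_bmul w hw, e, toM_bmul w hw, ← ez,
      mul_assoc, Units.mul_inv, mul_one]

/-- the class is closed under conjugation by the large subgroup -/
theorem class_closed {x : GL Z9 F} (hx : x ∈ HS w) :
    ∀ d < 480, ∃ d' < 480, (x : Matrix Z9 Z9 F) * toM w (xC d) = toM w (xC d') * (x : Matrix Z9 Z9 F) := by
  refine closure_induction_finite (P := fun x : GL Z9 F => ∀ d < 480, ∃ d' < 480,
      (x : Matrix Z9 Z9 F) * toM w (xC d) = toM w (xC d') * (x : Matrix Z9 Z9 F))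
    (fun d hd => ⟨d, hd, by simp⟩) (fun g hg d hd => ?_) (fun a b ha hb d hd => ?_) hx
  · obtain ⟨⟨j0, hj0, e0⟩, ⟨j1, hj1, e1⟩, -⟩ := xrow_spec hd
    rcases hg with hg | hg | hg
    · exact ⟨j0, hj0, by rw [hg, ← toM_bmul w hw, e0, toM_bmul w hw]⟩
    all_goals exact ⟨j1, hj1, by rw [hg, ← toM_bmul w hw, e1, toM_bmul w hw]⟩
  · obtain ⟨d', hd', e⟩ := hb d hd
    obtain ⟨d'', hd'', e'⟩ := ha d' hd'
    exact ⟨d'', hd'', by rw [Units.val_mul, mul_assoc, e, ← mul_assoc, e', mul_assoc]⟩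

/-- the centraliser lies in the large subgroup -/
theorem cent_mem_HS {u : GL Z9 F} (hu : u ∈ HS w) (eu : (u : Matrix Z9 Z9 F) = toM w uB)
    {x : GL Z9 F} (hx : x ∈ GS w) (hc : x * u = u * x) : x ∈ HS w := by
  choose T hT hTv using fun i : Fin 6156 => cT_mem w hw i i.2
  have hb := index_check.1
  have hone : T ⟨cBase, hb⟩ = 1 := Units.ext (by
    rw [hTv, cT, consts.cbase, toM_oneB, Units.val_one])
  obtain ⟨i, k, hk, e⟩ := exists_decomp T (HS w) (fun g hg i => by
    have hs := crow_spec i.2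
    have hE : ∃ A, (g : Matrix Z9 Z9 F) = toM w A ∧ CEdge A i := by
      rcases hg with hg | hg | hg
      · exact ⟨_, hg, hs.1⟩
      · exact ⟨_, hg, hs.2.1⟩
      · exact ⟨_, hg, hs.2.2.1⟩
    obtain ⟨A, hA, j, hj, a, ha, k, hk, e⟩ := hE
    obtain ⟨y, hy, ey⟩ := US_mem w hw ha hk
    exact ⟨⟨j, hj⟩, y, hy, Units.ext (by
      rw [Units.val_mul, Units.val_mul, hA, hTv, hTv, ey, ← toM_bmul w hw, ← toM_bmul w hw, e])⟩)
    (i₀ := ⟨cBase, hb⟩) (by rw [hone]; exact one_mem _) hx
  by_cases h0 : i.val = cBase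
  · rw [e, show i = ⟨cBase, hb⟩ from Fin.ext h0, hone, one_mul]
    exact hk
  exfalso
  by_cases h1 : i.val = cOther
  · obtain ⟨d, hd, ed⟩ : ∃ d < 480, (u : Matrix Z9 Z9 F) = toM w (xC d) :=
      ⟨xBase, index_check.2.2.2.2.1, by rw [eu, xC, consts.xbase]⟩
    obtain ⟨d', hd', e'⟩ := class_closed w hw hk d hd
    have h2 : T i * k * u = u * (T i * k) := by rw [← e, hc]
    have h3 := congrArg Units.val h2
    simp only [Units.val_mul] at h3
    rw [mul_assoc, ← ed] at *
    rw [e', ← mul_assoc, ← mul_assoc, (Units.isUnit k).mul_left_inj] at h3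
    rw [hTv, h1, eu, ← toM_bmul w hw, ← toM_bmul w hw] at h3
    have := (xrow_spec hd').2.2.2.2.2
    rw [toM_inj hw (goodB_bmul _ _) (goodB_bmul _ _) h3] at this
    simp [beqB] at this
  obtain ⟨n, -, en⟩ := coset_form w hw i.2 (x := x) hk (by rw [e, Units.val_mul, hTv])
  have h3 := congrArg Units.val hc
  simp only [Units.val_mul] at h3
  have hcj : conjM (x : Matrix Z9 Z9 F) * conjM (u : Matrix Z9 Z9 F) =
      conjM (u : Matrix Z9 Z9 F) * conjM (x : Matrix Z9 Z9 F) := by
    rw [← conjM_mul, ← conjM_mul, h3]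
  have hux : (u : Matrix Z9 Z9 F) * toM w formX = toM w formX * conjM (u : Matrix Z9 Z9 F) := by
    rw [eu, ← toM_bmul w hw, consts.uform, toM_bmul w hw, toM_conjB hw]
    rfl
  have hn : w ^ n ≠ 0 := pow_ne_zero _ (w_ne_zero hw)
  have h4 : w ^ n • ((u : Matrix Z9 Z9 F) * toM w (cK i) * conjM (x : Matrix Z9 Z9 F)) =
      w ^ n • (toM w (cK i) * conjM (u : Matrix Z9 Z9 F) * conjM (x : Matrix Z9 Z9 F)) := by
    rw [mul_assoc, ← Matrix.mul_smul, ← en, ← mul_assoc, ← h3, mul_assoc, hux, ← mul_assoc, en,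
      Matrix.smul_mul, mul_assoc, hcj, ← mul_assoc]
  have h5 := (isUnit_conjM x).mul_left_inj.1 (smul_right_injective _ hn h4)
  rw [eu, show conjM (toM w uB) = toM w (conjB uB) from (toM_conjB hw uB).symm,
    ← toM_bmul w hw, ← toM_bmul w hw] at h5
  have := (crow_spec i.2).2.2.2.2.2.2.2.2 h0 h1
  rw [toM_inj hw (goodB_bmul _ _) (goodB_bmul _ _) h5] at this
  simp [beqB] at this

/-- the centraliser of the element of order seventeen -/
theorem cent_eq {u s : GL Z9 F} (hu : u ∈ HS w) (eu : (u : Matrix Z9 Z9 F) = toM w uB)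
    (ou : orderOf u = 17) (hs : s ∈ HS w) (hsc : ∀ x : GL Z9 F, s * x = x * s) (os : orderOf s = 3)
    {x : GL Z9 F} (hx : x ∈ GS w) (hc : x * u = u * x) :
    ∃ a b : ℕ, a < 17 ∧ b < 3 ∧ x = u ^ a * s ^ b := by
  classical
  let C : Subgroup (GL Z9 F) := Subgroup.centralizer {u} ⊓ HS w
  have hmem : ∀ {z : GL Z9 F}, z ∈ C ↔ z * u = u * z ∧ z ∈ HS w := by
    intro z
    simp [C, Subgroup.mem_inf, Subgroup.mem_centralizer_iff, eq_comm]
  choose y hy hyv using fun d : Fin 480 => class_mem w hw eu d d.2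
  let f : Fin 480 × C → HS w := fun p => ⟨y p.1 * p.2, mul_mem (hy _) (hmem.1 p.2.2).2⟩
  have hf : Function.Injective f := by
    rintro ⟨d, c⟩ ⟨d', c'⟩ h
    have e : y d * c = y d' * c' := congrArg Subtype.val h
    have hcu : ∀ c : C, (c : GL Z9 F) * u * (c : GL Z9 F)⁻¹ = u := fun c =>
      mul_inv_eq_iff_eq_mul.2 (hmem.1 c.2).1
    have e1 : y d * u * (y d)⁻¹ = y d' * u * (y d')⁻¹ := by
      calc y d * u * (y d)⁻¹ = y d * ((c : GL Z9 F) * u * (c : GL Z9 F)⁻¹) * (y d)⁻¹ := by rw [hcu]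
        _ = (y d * c) * u * (y d * c)⁻¹ := by group
        _ = (y d' * c') * u * (y d' * c')⁻¹ := by rw [e]
        _ = y d' * ((c' : GL Z9 F) * u * (c' : GL Z9 F)⁻¹) * (y d')⁻¹ := by group
        _ = y d' * u * (y d')⁻¹ := by rw [hcu]
    have e2 := congrArg Units.val e1
    rw [hyv, hyv] at e2
    have e3 := toM_inj hw (xrow_spec d.2).2.2.2.1 (xrow_spec d'.2).2.2.2.1 e2
    have hd : d = d' := Fin.ext (eq_of_increasing (fun d => keyB (xC d))
      (fun d hd => (xrow_spec (by omega)).2.2.2.2.1 hd) d.2 d'.2 (by rw [e3]))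
    subst hd
    rw [mul_left_cancel_iff] at e
    exact Prod.ext rfl (Subtype.ext e)
  have hle := Nat.card_le_card_of_injective f hf
  rw [Nat.card_prod, Nat.card_fin, card_HS w hw] at hle
  let g : Fin 17 × Fin 3 → C := fun p => ⟨u ^ p.1.val * s ^ p.2.val, hmem.2
    ⟨Commute.mul_left (Commute.pow_self u _) (Commute.pow_left (hsc u) _),
      mul_mem (pow_mem hu _) (pow_mem hs _)⟩⟩
  have hg : Function.Injective g := by
    rintro ⟨a, b⟩ ⟨a', b'⟩ h
    have e : u ^ a.val * s ^ b.val = u ^ a'.val * s ^ b'.val := congrArg Subtype.val h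
    have e3 := congrArg (fun z : GL Z9 F => z ^ 3) e
    have h3 : ∀ n : ℕ, (s ^ n) ^ 3 = 1 := fun n => by
      rw [← pow_mul, mul_comm, pow_mul, orderOf_dvd_iff_pow_eq_one.1 os.dvd, one_pow]
    have hcm : ∀ m n : ℕ, Commute (u ^ m) (s ^ n) := fun m n => (Commute.symm (hsc u)).pow_pow _ _
    simp only [(hcm _ _).mul_pow, h3, mul_one, ← pow_mul] at e3
    rw [pow_inj_mod, ou] at e3
    have ha : a = a' := by
      apply Fin.ext
      have := a.2; have := a'.2
      omega
    subst ha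
    rw [mul_left_cancel_iff, pow_inj_mod, os, Nat.mod_eq_of_lt b.2, Nat.mod_eq_of_lt b'.2] at e
    exact Prod.ext rfl (Fin.ext e)
  have hbij : Function.Bijective g := by
    refine (Nat.bijective_iff_injective_and_card g).2 ⟨hg, ?_⟩
    have h1 := Nat.card_le_card_of_injective g hg
    rw [Nat.card_prod, Nat.card_fin, Nat.card_fin] at h1 ⊢
    omega
  obtain ⟨⟨a, b⟩, hab⟩ := hbij.2 ⟨x, hmem.2 ⟨hc, cent_mem_HS w hw hu eu hx hc⟩⟩
  exact ⟨a, b, a.2, b.2, (congrArg Subtype.val hab).symm⟩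

/-- the centre consists of the scalars -/
theorem center_GS :
    ∃ s : GS w, orderOf s = 3 ∧ Subgroup.center (GS w) = Subgroup.zpowers s := by
  obtain ⟨u, hu, eu, ou⟩ := exists_u w hw
  obtain ⟨s, hs, hsc, os⟩ := exists_sc w hw
  refine ⟨⟨s, HS_le w hw hs⟩, by rw [Subgroup.orderOf_mk, os], le_antisymm ?_ ?_⟩
  · intro z hz
    have hzc : ∀ g ∈ GS w, g * (z : GL Z9 F) = (z : GL Z9 F) * g := fun g hg =>
      congrArg Subtype.val (Subgroup.mem_center_iff.1 hz ⟨g, hg⟩)
    obtain ⟨a, b, ha, -, e⟩ := cent_eq w hw hu eu ou hs hsc os z.2 (hzc u (HS_le w hw hu)).symm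
    rcases Nat.eq_zero_or_pos a with rfl | hpos
    · rw [Subgroup.mem_zpowers_iff]
      exact ⟨b, Subtype.ext (by rw [e, pow_zero, one_mul, zpow_natCast, Subgroup.coe_pow])⟩
    exfalso
    have hcu : ∀ g ∈ GS w, Commute g u := by
      intro g hg
      have h1 : Commute g (u ^ a) := by
        have h2 : Commute g ((z : GL Z9 F) * (s ^ b)⁻¹) :=
          Commute.mul_right (hzc g hg) (Commute.inv_right (Commute.pow_right (hsc g).symm b))
        rwa [e, mul_inv_cancel_right] at h2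
      have hco : Nat.Coprime a 17 := Nat.Coprime.symm
        ((Nat.Prime.coprime_iff_not_dvd (by norm_num)).2 (Nat.not_dvd_of_pos_of_lt hpos ha))
      obtain ⟨m, hm⟩ := exists_pow_eq_self_of_coprime (x := u) (n := a) (by rw [ou]; exact hco)
      rw [← hm]
      exact h1.pow_right m
    have hall : ∀ g : GS w, ∃ a b : ℕ, a < 17 ∧ b < 3 ∧ (g : GL Z9 F) = u ^ a * s ^ b := fun g =>
      cent_eq w hw hu eu ou hs hsc os g.2 (hcu g g.2).eq
    choose A B hA hB hAB using hall
    have hinj : Function.Injective fun g : GS w => ((⟨A g, hA g⟩ : Fin 17), (⟨B g, hB g⟩ : Fin 3)) := by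
      intro g g' h
      apply Subtype.ext
      simp only [Prod.mk.injEq, Fin.mk.injEq] at h
      rw [hAB g, hAB g', h.1, h.2]
    have := Nat.card_le_card_of_injective _ hinj
    rw [card_GS w hw, Nat.card_prod, Nat.card_fin, Nat.card_fin] at this
    omega
  · rw [Subgroup.zpowers_le, Subgroup.mem_center_iff]
    exact fun g => Subtype.ext (hsc g).symm

theorem card_center_GS : Nat.card (Subgroup.center (GS w)) = 3 := by
  obtain ⟨s, os, hs⟩ := center_GS w hw
  rw [hs, Nat.card_zpowers, os]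

theorem card_quotient : Nat.card (GS w ⧸ Subgroup.center (GS w)) = 50232960 := by
  have h := Subgroup.card_eq_card_quotient_mul_card_subgroup (Subgroup.center (GS w))
  rw [card_GS w hw, card_center_GS w hw] at h
  omega

theorem simple_quotient : IsSimpleGroup (GS w ⧸ Subgroup.center (GS w)) := by
  obtain ⟨u, hu, eu, ou⟩ := exists_u w hw
  obtain ⟨s, hs, hsc, os⟩ := exists_sc w hw
  haveI : Fact (Nat.Prime 17) := ⟨by norm_num⟩
  let u' : GS w := ⟨u, HS_le w hw hu⟩
  have ou' : orderOf u' = 17 := by rw [Subgroup.orderOf_mk, ou]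
  obtain ⟨z, oz, hz⟩ := center_GS w hw
  have hcop : ∀ c : GS w, c ∈ Subgroup.center (GS w) → c ^ 17 = 1 → c = 1 := by
    intro c hc h17
    have h3 : orderOf c ∣ 3 := by
      have h := orderOf_dvd_natCard (⟨c, hc⟩ : Subgroup.center (GS w))
      rwa [Subgroup.orderOf_mk, card_center_GS w hw] at h
    have h := Nat.dvd_gcd (orderOf_dvd_of_pow_eq_one h17) h3
    rw [show Nat.gcd 17 3 = 1 by norm_num, Nat.dvd_one, orderOf_eq_one_iff] at h
    exact h
  have hQ := card_quotient w hw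
  refine isSimple_of_selfcentralizing (p := 17) (u := (u' : GS w ⧸ Subgroup.center (GS w))) ?_
    (Finite.one_lt_card_iff_nontrivial.1 (by rw [hQ]; norm_num)) (by rw [hQ]; norm_num) ?_ ?_ ?_
  · refine orderOf_eq_prime (by rw [← QuotientGroup.mk_pow, ← ou', pow_orderOf_eq_one, QuotientGroup.mk_one])
      fun h1 => ?_
    rw [QuotientGroup.eq_one_iff] at h1
    have := hcop u' h1 (by rw [← ou', pow_orderOf_eq_one])
    rw [this, orderOf_one] at ou'
    norm_num at ou'
  · intro x hx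
    induction x using QuotientGroup.induction_on with
    | _ g =>
      rw [← QuotientGroup.mk_mul, ← QuotientGroup.mk_mul, QuotientGroup.eq] at hx
      have hconj : g * u' * g⁻¹ = (g * u' * g⁻¹ * u'⁻¹) * u' := by group
      have hcc : g * u' * g⁻¹ * u'⁻¹ ∈ Subgroup.center (GS w) := by
        have h2 := Subgroup.inv_mem _ hx
        have h3 : ((g * u')⁻¹ * (u' * g))⁻¹ = g⁻¹ * (u'⁻¹ * (g * u')) := by group
        rw [h3] at h2
        have h4 := (inferInstance : (Subgroup.center (GS w)).Normal).conj_mem _ h2 (u' * g)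
        have h5 : u' * g * (g⁻¹ * (u'⁻¹ * (g * u'))) * (u' * g)⁻¹ = g * u' * g⁻¹ * u'⁻¹ := by group
        rwa [h5] at h4
      have h17 : (g * u' * g⁻¹ * u'⁻¹) ^ 17 = 1 := by
        have hcomm : Commute (g * u' * g⁻¹ * u'⁻¹) u' := (Subgroup.mem_center_iff.1 hcc u').symm
        have h6 : (g * u' * g⁻¹) ^ 17 = 1 := by
          rw [conj_pow, ← ou', pow_orderOf_eq_one, mul_one, mul_inv_cancel]
        rw [hconj, hcomm.mul_pow, ← ou', pow_orderOf_eq_one, mul_one, ou'] at h6
        exact h6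
      have h7 : g * u' = u' * g := by
        rw [hcop _ hcc h17, one_mul, mul_inv_eq_iff_eq_mul] at hconj
        exact hconj
      obtain ⟨a, b, -, -, e⟩ := cent_eq w hw hu eu ou hs hsc os g.2 (congrArg Subtype.val h7)
      rw [Subgroup.mem_zpowers_iff]
      refine ⟨a, ?_⟩
      rw [zpow_natCast, ← QuotientGroup.mk_pow, QuotientGroup.eq, Subgroup.mem_center_iff]
      intro k
      refine Subtype.ext ?_
      simp only [Subgroup.coe_mul, Subgroup.coe_inv, Subgroup.coe_pow, u', e, inv_mul_cancel_left]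
      exact ((Commute.symm (hsc (k : GL Z9 F))).pow_right b).eq
  · intro q k hq hne hk hd
    rw [hQ, show 50232960 = 2 ^ 7 * 3 ^ 5 * 5 * 19 * 17 by norm_num] at hd
    have hd' : q ^ k ∣ 2 ^ 7 * 3 ^ 5 * 5 * 19 :=
      (Nat.Coprime.pow_left k ((Nat.coprime_primes hq (by norm_num)).2 hne)).dvd_of_dvd_mul_right hd
    have hqd : q ∣ 2 ^ 7 * 3 ^ 5 * 5 * 19 := (dvd_pow_self q hk.ne').trans hd'
    have hpr : ∀ {r : ℕ}, r.Prime → q ∣ r → q = r := fun hr h => (Nat.prime_dvd_prime_iff_eq hq hr).1 h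
    have hval : q = 2 ∨ q = 3 ∨ q = 5 ∨ q = 19 := by
      rcases hq.dvd_mul.1 hqd with h | h
      · rcases hq.dvd_mul.1 h with h | h
        · rcases hq.dvd_mul.1 h with h | h
          · exact Or.inl (hpr (by norm_num) (hq.dvd_of_dvd_pow h))
          · exact Or.inr (Or.inl (hpr (by norm_num) (hq.dvd_of_dvd_pow h)))
        · exact Or.inr (Or.inr (Or.inl (hpr (by norm_num) h)))
      · exact Or.inr (Or.inr (Or.inr (hpr (by norm_num) h)))
    have bound : ∀ n : ℕ, ¬ q ^ (n + 1) ∣ 2 ^ 7 * 3 ^ 5 * 5 * 19 → k ≤ n := fun n hn => by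
      by_contra hlt
      exact hn ((pow_dvd_pow q (Nat.lt_of_not_le hlt)).trans hd')
    rcases hval with rfl | rfl | rfl | rfl
    · have := bound 7 (by norm_num); interval_cases k <;> decide
    · have := bound 5 (by norm_num); interval_cases k <;> decide
    · have := bound 1 (by norm_num); interval_cases k; decide
    · have := bound 1 (by norm_num); interval_cases k; decide
  · rw [eq_top_iff]
    rintro x -
    induction x using QuotientGroup.induction_on with
    | _ g =>
      let S := (Subgroup.closure {x : GS w ⧸ Subgroup.center (GS w) | x ^ 17 = 1}).comap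
        (QuotientGroup.mk' (Subgroup.center (GS w)))
      suffices h : GS w ≤ S.map (GS w).subtype by
        obtain ⟨y, hy, ey⟩ := h g.2
        rw [show y = g from Subtype.ext ey] at hy
        exact hy
      obtain ⟨-, -, -, -, -, -, -, -, -, -, -, -, -, d0, d1, d2, -⟩ := index_check
      have key : ∀ (G0 : BM) (n : ℕ) (c1 c2 : BM) (e : ℕ), e < 3 → n < 6156 →
          InS w (GS w) G0 → bmul (cT n) uB = bmul c1 (cT n) → bmul c1 c2 = G0 →
          powB c2 17 = smulB e oneB → InS w (S.map (GS w).subtype) G0 := by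
        intro G0 n c1 c2 e he hn hG h1 h2 h3
        obtain ⟨t, ht, et⟩ := cT_mem w hw n hn
        obtain ⟨x0, hx0, ex0⟩ := hG
        have ec1 : (((t * u * t⁻¹ : GL Z9 F)) : Matrix Z9 Z9 F) = toM w c1 := by
          rw [Units.val_mul, Units.val_mul, et, eu, ← toM_bmul w hw, h1, toM_bmul w hw, ← et,
            mul_assoc, Units.mul_inv, mul_one]
        let a : GS w := ⟨t, ht⟩ * u' * ⟨t, ht⟩⁻¹
        let b : GS w := a⁻¹ * ⟨x0, hx0⟩
        have ha : a ∈ S := Subgroup.subset_closure (by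
          show ((a : GS w) : GS w ⧸ Subgroup.center (GS w)) ^ 17 = 1
          rw [← QuotientGroup.mk_pow, conj_pow, ← ou', pow_orderOf_eq_one, mul_one, mul_inv_cancel,
            QuotientGroup.mk_one])
        have eb : ((b : GL Z9 F) : Matrix Z9 Z9 F) = toM w c2 := by
          have h4 : ((b : GS w) : GL Z9 F) = (t * u * t⁻¹)⁻¹ * x0 := rfl
          rw [h4, Units.val_mul, ex0, ← h2, toM_bmul w hw, ← ec1, ← mul_assoc, Units.inv_mul,
            one_mul]
        have hb : b ∈ S := Subgroup.subset_closure (by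
          show ((b : GS w) : GS w ⧸ Subgroup.center (GS w)) ^ 17 = 1
          rw [← QuotientGroup.mk_pow, QuotientGroup.eq_one_iff, Subgroup.mem_center_iff]
          intro g'
          refine Subtype.ext (Units.ext ?_)
          rw [Subgroup.coe_mul, Subgroup.coe_mul, Units.val_mul, Units.val_mul, Subgroup.coe_pow,
            Units.val_pow_eq_pow_val, eb, ← powB_spec w hw, h3, toM_smulB hw e he, toM_oneB,
            Matrix.mul_smul, Matrix.smul_mul, one_mul, mul_one])
        refine ⟨x0, ⟨a * b, S.mul_mem ha hb, ?_⟩, ex0⟩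
        show ((a * b : GS w) : GL Z9 F) = x0
        rw [show a * b = ⟨x0, hx0⟩ from mul_inv_cancel_left a _]
      exact gen3S_le w
        (key _ _ _ _ 1 (by norm_num) d0 (gens_mem w hw).1 consts.d0a consts.d0b consts.d0c)
        (key _ _ _ _ 1 (by norm_num) d1 (gens_mem w hw).2.1 consts.d1a consts.d1b consts.d1c)
        (key _ _ _ _ 0 (by norm_num) d2 (gens_mem w hw).2.2 consts.d2a consts.d2b
          (by rw [consts.d2c]; rfl))

end Cfsg.Agent.SporB.J3
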