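import Cfsg.Agent.SporB.J3.Tables

set_option autoImplicit false

/-! Decoding lemmas over a field with four elements. -/

namespace Cfsg.Agent.SporB.J3

theorem lt_of_blt {a b : ℕ} (h : Nat.blt a b = true) : a < b := by
  simpa [Nat.blt_eq] using h

theorem eq_of_beq' {a b : ℕ} (h : Nat.beq a b = true) : a = b := Nat.eq_of_beq_eq_true h

theorem exists_ix : ∀ m < 9, ∃ i, ix i = m := by decide

theorem ix_injective : Function.Injective ix := by decide

theorem charP_two_of_card {F : Type*} [Field F] [Fintype F] (hF : Fintype.card F = 4) :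
    CharP F 2 := by
  apply CharTwo.of_one_ne_zero_of_two_eq_zero one_ne_zero
  have h : ((4 : ℕ) : F) = 0 := by rw [← hF]; exact Nat.cast_card_eq_zero F
  have h2 : (2 : F) * 2 = 0 := by
    rw [← h]
    push_cast
    norm_num
  exact mul_self_eq_zero.1 h2

variable {F : Type*} [Field F] [CharP F 2] {w : F} (hw : w ^ 2 + w + 1 = 0)

include hw

theorem w_ne_zero : w ≠ 0 := by
  rintro rfl
  simp at hw

theorem w_ne_one : w ≠ 1 := by
  rintro rfl
  rw [one_pow, CharTwo.add_self_eq_zero, zero_add] at hw
  exact one_ne_zero hw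

theorem w_sq : w ^ 2 = 1 + w := by
  have : w ^ 2 + (1 + w) = 0 := by rw [← hw]; ring
  exact CharTwo.add_eq_zero.1 this

theorem w_cube : w ^ 3 = 1 := by
  linear_combination (w - 1) * hw

theorem bitpair_inj {a b c d : Bool}
    (h : bitF F a + bitF F b * w = bitF F c + bitF F d * w) : a = c ∧ b = d := by
  have h0 := w_ne_zero hw
  have h1 := w_ne_one hw
  have h2 : (1 : F) + w ≠ 0 := fun e => h1 (CharTwo.add_eq_zero.1 e).symm
  have h3 : (1 : F) + w ≠ 1 := fun e => h0 (by simpa using e)
  have h4 : (1 : F) + w ≠ w := fun e => one_ne_zero (α := F) (by simpa using e)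
  cases a <;> cases b <;> cases c <;> cases d <;>
    simp [bitF, h0, h1, h2, h3, h4, h0.symm, h1.symm, h2.symm, h3.symm, h4.symm] at h ⊢

omit hw in
theorem toM_eq_zero_bits {A : BM} {i j : ZMod 3 × ZMod 3}
    (h1 : Nat.testBit A.lo (9 * ix i + ix j) = false)
    (h2 : Nat.testBit A.hi (9 * ix i + ix j) = false) : toM w A i j = 0 := by
  simp [toM, bitF, h1, h2]

theorem toM_inj {A B : BM} (hA : goodB A = true) (hB : goodB B = true)
    (h : toM w A = toM w B) : A = B := by
  simp only [goodB, Bool.and_eq_true] at hA hB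
  have hbit : ∀ n, Nat.testBit A.lo n = Nat.testBit B.lo n ∧ Nat.testBit A.hi n = Nat.testBit B.hi n := by
    intro n
    rcases Nat.lt_or_ge n 81 with hn | hn
    · obtain ⟨i, hi⟩ := exists_ix (n / 9) (by omega)
      obtain ⟨j, hj⟩ := exists_ix (n % 9) (Nat.mod_lt _ (by norm_num))
      have he := congrFun (congrFun h i) j
      simp only [toM, Matrix.of_apply, hi, hj, Nat.div_add_mod] at he
      exact bitpair_inj hw he
    · have hp : 2 ^ 81 ≤ 2 ^ n := Nat.pow_le_pow_right (by norm_num) hn
      constructor <;>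
        rw [Nat.testBit_lt_two_pow, Nat.testBit_lt_two_pow] <;>
        first
          | exact (lt_of_blt hA.1).trans_le hp
          | exact (lt_of_blt hA.2).trans_le hp
          | exact (lt_of_blt hB.1).trans_le hp
          | exact (lt_of_blt hB.2).trans_le hp
  cases A; cases B
  congr 1 <;> exact Nat.eq_of_testBit_eq fun n => by first | exact (hbit n).1 | exact (hbit n).2

omit hw in
theorem toM_oneB : toM w oneB = 1 := by
  ext i j
  have key : ∀ i j : ZMod 3 × ZMod 3, Nat.testBit oneB.lo (9 * ix i + ix j) = decide (i = j) ∧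
      Nat.testBit oneB.hi (9 * ix i + ix j) = false := by decide +kernel
  simp only [toM, Matrix.of_apply, (key i j).1, (key i j).2, Matrix.one_apply]
  by_cases hij : i = j <;> simp [bitF, hij]

theorem bitF_conj (a b : Bool) :
    (bitF F a + bitF F b * w) ^ 2 = bitF F (xor a b) + bitF F b * w := by
  cases a <;> cases b <;> simp only [bitF, cond_true, cond_false, Bool.xor_false, Bool.xor_true,
    Bool.false_xor, Bool.not_false, Bool.not_true, zero_mul, one_mul, add_zero, zero_add]
  · ring
  · exact w_sq hw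
  · exact one_pow 2
  · rw [CharTwo.add_sq, one_pow, w_sq hw, ← add_assoc, CharTwo.add_self_eq_zero, zero_add]

theorem toM_conjB (A : BM) : toM w (conjB A) = (toM w A).map fun x => x ^ 2 := by
  ext i j
  simp only [toM, conjB, Matrix.map_apply, Matrix.of_apply, Nat.testBit_xor]
  exact (bitF_conj hw _ _).symm

theorem toM_smulB (c : ℕ) (hc : c < 3) (A : BM) : toM w (smulB c A) = w ^ c • toM w A := by
  ext i j
  simp only [toM, Matrix.smul_apply, Matrix.of_apply, smul_eq_mul]
  interval_cases c
  · simp [smulB]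
  all_goals
    simp only [smulB, show Nat.beq 1 0 = false from rfl, show Nat.beq 1 1 = true from rfl,
      show Nat.beq 2 0 = false from rfl, show Nat.beq 2 1 = false from rfl, cond_true, cond_false,
      Nat.testBit_xor, bitF_xor]
  · linear_combination -(bitF F (Nat.testBit A.hi (9 * ix i + ix j))) * (w_sq hw)
  · rw [w_sq hw]
    linear_combination (-(bitF F (Nat.testBit A.hi (9 * ix i + ix j)))) * (w_cube hw)
      + bitF F (Nat.testBit A.hi (9 * ix i + ix j)) * w * (w_sq hw)

omit hw in
theorem goodB_bmul (A B : BM) : goodB (bmul A B) = true := by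
  have hmask : rowMask * 511 < 2 ^ 81 := by norm_num [rowMask]
  have hc : ∀ x k, colAt x k ≤ rowMask := fun x k => Nat.and_le_right
  have hl : ∀ k, termLo A B k < 2 ^ 81 := by
    intro k
    refine Nat.xor_lt_two_pow ?_ ?_ <;>
      exact lt_of_le_of_lt (Nat.mul_le_mul (hc _ _) (Nat.le_of_lt_succ (rowOf_lt _ _))) hmask
  have hh : ∀ k, termHi A B k < 2 ^ 81 := by
    intro k
    have hx : rowOf B.lo k ^^^ rowOf B.hi k < 512 :=
      Nat.xor_lt_two_pow (n := 9) (rowOf_lt _ _) (rowOf_lt _ _)
    refine Nat.xor_lt_two_pow ?_ ?_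
    · exact lt_of_le_of_lt (Nat.mul_le_mul (hc _ _) (Nat.le_of_lt_succ (rowOf_lt _ _))) hmask
    · exact lt_of_le_of_lt (Nat.mul_le_mul (hc _ _) (Nat.le_of_lt_succ hx)) hmask
  simp only [goodB, bmul, Bool.and_eq_true, Nat.blt_eq]
  constructor <;>
    repeat' first
      | exact hl _
      | exact hh _
      | apply Nat.xor_lt_two_pow

omit hw in
theorem bit_of_norm {A : BM} {p : ℕ} (h : normB A p = true) :
    Nat.testBit A.lo p = true ∧ Nat.testBit A.hi p = false ∧
      ∀ q < p, Nat.testBit A.lo q = false ∧ Nat.testBit A.hi q = false := by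
  simp only [normB, Bool.and_eq_true] at h
  obtain ⟨⟨h1, h2⟩, h3⟩ := h
  have a1 := eq_of_beq' h1
  have a2 := eq_of_beq' h2
  have a3 := eq_of_beq' h3
  refine ⟨?_, ?_, fun q hq => ?_⟩
  · rw [Nat.testBit, Nat.and_comm, a1]; rfl
  · rw [Nat.testBit, Nat.and_comm, a2]; rfl
  · have := congrArg (Nat.testBit · q) a3
    simp only [Nat.one_shiftLeft, Nat.testBit_and, Nat.testBit_two_pow_sub_one, hq, decide_true,
      Bool.and_true, Nat.testBit_or, Nat.zero_testBit, Bool.or_eq_false_iff] at this
    exact this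

theorem norm_eq {A B : BM} {p q c : ℕ} (hc : c < 3) (hA : goodB A = true) (hB : goodB B = true)
    (hp : normB A p = true) (hq : normB B q = true) (h : toM w A = w ^ c • toM w B) : A = B := by
  rw [← toM_smulB hw c hc] at h
  have hp81 : ∀ {A : BM} {p : ℕ}, goodB A = true → normB A p = true → p < 81 := by
    intro A p hA hp
    by_contra hge
    have := (bit_of_norm hp).1
    simp only [goodB, Bool.and_eq_true] at hA
    rw [Nat.testBit_lt_two_pow ((lt_of_blt hA.1).trans_le
      (Nat.pow_le_pow_right (by norm_num) (not_lt.1 hge)))] at this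
    exact Bool.noConfusion this
  have hbit : ∀ n < 81, Nat.testBit A.lo n = Nat.testBit (smulB c B).lo n ∧
      Nat.testBit A.hi n = Nat.testBit (smulB c B).hi n := by
    intro n hn
    obtain ⟨i, hi⟩ := exists_ix (n / 9) (by omega)
    obtain ⟨j, hj⟩ := exists_ix (n % 9) (Nat.mod_lt _ (by norm_num))
    have he := congrFun (congrFun h i) j
    simp only [toM, Matrix.of_apply, hi, hj, Nat.div_add_mod] at he
    exact bitpair_inj hw he
  obtain ⟨a1, a2, a3⟩ := bit_of_norm hp
  obtain ⟨b1, b2, b3⟩ := bit_of_norm hq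
  have hb := hbit p (hp81 hA hp)
  have hb' := hbit q (hp81 hB hq)
  interval_cases c
  · exact toM_inj hw hA hB (by simpa [smulB] using h)
  all_goals
    exfalso
    simp only [smulB, show Nat.beq 1 0 = false from rfl, show Nat.beq 1 1 = true from rfl,
      show Nat.beq 2 0 = false from rfl, show Nat.beq 2 1 = false from rfl, cond_true, cond_false,
      Nat.testBit_xor, a1, a2, b1, b2] at hb hb'
    rcases lt_trichotomy p q with hpq | hpq | hpq
    · rw [(b3 p hpq).1, (b3 p hpq).2] at hb
      simp at hb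
    · subst hpq
      rw [b1, b2] at hb
      simp at hb
    · rw [(a3 q hpq).1, (a3 q hpq).2] at hb'
      simp at hb'

end Cfsg.Agent.SporB.J3
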