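import Mathlib

set_option autoImplicit false

/-!
Group theoretic lemmas used by the J3 certificate: coset decompositions from Schreier edges, and a
simplicity criterion from a self-centralising element of prime order.
-/

namespace Cfsg.Agent.SporB.J3

variable {G : Type*} [Group G]

theorem closure_induction_finite [Finite G] {s : Set G} {P : G → Prop} (h1 : P 1)
    (hs : ∀ g ∈ s, P g) (hm : ∀ x y, P x → P y → P (x * y)) {x : G}
    (hx : x ∈ Subgroup.closure s) : P x := by
  induction hx using Subgroup.closure_induction with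
  | mem y hy => exact hs y hy
  | one => exact h1
  | mul a b _ _ ha hb => exact hm a b ha hb
  | inv y _ hy =>
    obtain ⟨n, hn⟩ := (isOfFinOrder_of_finite y).mem_powers_iff_mem_zpowers.2
      (Subgroup.inv_mem _ (Subgroup.mem_zpowers y))
    rw [← hn]
    dsimp only
    clear hn
    induction n with
    | zero => rw [pow_zero]; exact h1
    | succ n ih => rw [pow_succ]; exact hm _ _ ih hy

theorem exists_decomp [Finite G] {ι : Type*} (T : ι → G) (K : Subgroup G) {s : Set G}
    (edge : ∀ g ∈ s, ∀ i, ∃ j, ∃ k ∈ K, g * T i = T j * k) {i₀ : ι} (h₀ : T i₀ ∈ K) {x : G}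
    (hx : x ∈ Subgroup.closure s) : ∃ i, ∃ k ∈ K, x = T i * k := by
  have h : ∀ i, ∃ j, ∃ k ∈ K, x * T i = T j * k := by
    refine closure_induction_finite (P := fun x => ∀ i, ∃ j, ∃ k ∈ K, x * T i = T j * k)
      (fun i => ⟨i, 1, K.one_mem, by simp⟩) edge (fun a b ha hb i => ?_) hx
    obtain ⟨j, k, hk, e⟩ := hb i
    obtain ⟨j', k', hk', e'⟩ := ha j
    exact ⟨j', k' * k, K.mul_mem hk' hk, by rw [mul_assoc, e, ← mul_assoc, e', mul_assoc]⟩
  obtain ⟨j, k, hk, e⟩ := h i₀
  exact ⟨j, k * (T i₀)⁻¹, K.mul_mem hk (K.inv_mem h₀), by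
    rw [← mul_assoc, ← e, mul_inv_cancel_right]⟩

theorem card_decomp [Finite G] {ι : Type*} (T : ι → G) (K : Subgroup G) {s : Set G}
    (edge : ∀ g ∈ s, ∀ i, ∃ j, ∃ k ∈ K, g * T i = T j * k) {i₀ : ι} (h₀ : T i₀ ∈ K)
    (hT : ∀ i, T i ∈ Subgroup.closure s) (hK : K ≤ Subgroup.closure s)
    (inj : ∀ i j, ∀ a ∈ K, ∀ b ∈ K, T i * a = T j * b → i = j) :
    Nat.card (Subgroup.closure s) = Nat.card ι * Nat.card K := by
  let f : ι × K → Subgroup.closure s := fun p =>
    ⟨T p.1 * p.2, Subgroup.mul_mem _ (hT _) (hK p.2.2)⟩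
  have hf : Function.Bijective f := by
    refine ⟨fun p q h => ?_, fun x => ?_⟩
    · have e : T p.1 * p.2 = T q.1 * q.2 := congrArg Subtype.val h
      have e1 := inj _ _ _ p.2.2 _ q.2.2 e
      rw [e1, mul_left_cancel_iff] at e
      exact Prod.ext e1 (Subtype.ext e)
    · obtain ⟨i, k, hk, e⟩ := exists_decomp T K edge h₀ x.2
      exact ⟨⟨i, ⟨k, hk⟩⟩, Subtype.ext e.symm⟩
  rw [← Nat.card_congr (Equiv.ofBijective f hf), Nat.card_prod]

/-- An element of order `p` with `p` dividing the order only once lies in every normal subgroup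
whose order `p` divides. -/
theorem mem_of_pow_eq_one [Finite G] {p : ℕ} (hp : p.Prime) (h2 : ¬ p * p ∣ Nat.card G)
    {N : Subgroup G} [N.Normal] (hN : p ∣ Nat.card N) {x : G} (hx : x ^ p = 1) : x ∈ N := by
  rw [← QuotientGroup.eq_one_iff, ← orderOf_eq_one_iff]
  have h1 : (x : G ⧸ N) ^ p = 1 := by rw [← QuotientGroup.mk_pow, hx, QuotientGroup.mk_one]
  rcases (Nat.dvd_prime hp).1 (orderOf_dvd_of_pow_eq_one h1) with h | h
  · exact h
  · exfalso
    apply h2
    rw [Subgroup.card_eq_card_quotient_mul_card_subgroup N]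
    exact mul_dvd_mul (h ▸ orderOf_dvd_natCard _) hN

/-- A simplicity criterion. -/
theorem isSimple_of_selfcentralizing [Finite G] {p : ℕ} [hp : Fact p.Prime] {u : G}
    (hu : orderOf u = p) (hne : Nontrivial G) (h2 : ¬ p * p ∣ Nat.card G)
    (hcent : ∀ x : G, x * u = u * x → x ∈ Subgroup.zpowers u)
    (hq : ∀ q k : ℕ, q.Prime → q ≠ p → 0 < k → q ^ k ∣ Nat.card G → ¬ q ^ k ≡ 1 [MOD p])
    (hgen : Subgroup.closure {x : G | x ^ p = 1} = ⊤) : IsSimpleGroup G := by
  refine { toNontrivial := hne, eq_bot_or_eq_top_of_normal := fun N hN => ?_ }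
  haveI := hN
  by_cases hd : p ∣ Nat.card N
  · right
    rw [eq_top_iff, ← hgen, Subgroup.closure_le]
    exact fun x hx => mem_of_pow_eq_one hp.out h2 hd hx
  left
  by_contra hbot
  have hcard : Nat.card N ≠ 1 := fun h => hbot (Subgroup.card_eq_one.1 h)
  obtain ⟨q, hqp, hqN⟩ := Nat.exists_prime_and_dvd hcard
  haveI : Fact q.Prime := ⟨hqp⟩
  have hqne : q ≠ p := fun h => hd (h ▸ hqN)
  let U := Subgroup.zpowers u
  haveI : Fintype U := Fintype.ofFinite _
  have hU : IsPGroup p U := IsPGroup.of_card (n := 1) (by rw [Nat.card_zpowers, hu, pow_one])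
  let φ : U →* MulAut N := (MulAut.conjNormal (H := N)).comp U.subtype
  letI : MulDistribMulAction U N := MulDistribMulAction.compHom N φ
  -- a Sylow subgroup fixed by `u`
  haveI : Finite (Sylow q N) := inferInstance
  have hn : ¬ p ∣ Nat.card (Sylow q N) := fun h =>
    hd (h.trans (Sylow.card_dvd_index default |>.trans (Subgroup.index_dvd_card _)))
  obtain ⟨P, hP⟩ := hU.nonempty_fixed_point_of_prime_not_dvd_card (Sylow q N) hn
  obtain ⟨k, hk⟩ := (IsPGroup.iff_card.1 P.isPGroup')
  have hk0 : 0 < k := by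
    rcases Nat.eq_zero_or_pos k with rfl | h
    · exfalso
      have := (P : Sylow q N).dvd_card_of_dvd_card hqN
      rw [hk, pow_zero] at this
      exact hqp.one_lt.ne' (Nat.dvd_one.1 this)
    · exact h
  -- `u` acts on `P` with a single fixed point
  have hmem : ∀ (v : U) (x : N), x ∈ (P : Subgroup N) → v • x ∈ (P : Subgroup N) := by
    intro v x hx
    have h := hP v
    rw [← h]
    exact ⟨x, hx, rfl⟩
  letI : MulAction U (P : Subgroup N) :=
    { smul := fun v x => ⟨v • x.1, hmem v _ x.2⟩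
      one_smul := fun x => Subtype.ext (one_smul U x.1)
      mul_smul := fun a b x => Subtype.ext (mul_smul a b x.1) }
  have hfix : MulAction.fixedPoints U (P : Subgroup N) = {1} := by
    ext x
    simp only [Set.mem_singleton_iff]
    constructor
    · intro hx
      have h1 : (⟨u, Subgroup.mem_zpowers u⟩ : U) • x.1 = x.1 := congrArg Subtype.val (hx _)
      have h2' : u * (x.1 : G) * u⁻¹ = (x.1 : G) := congrArg Subtype.val h1
      have h3 : (x.1 : G) ∈ U := hcent _ (mul_inv_eq_iff_eq_mul.1 h2').symm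
      have hpx : (x.1 : G) ^ p = 1 := by
        rw [← hu]
        obtain ⟨n, hn⟩ := h3
        dsimp only at hn
        rw [← hn, ← zpow_natCast, ← zpow_mul, mul_comm, zpow_mul, zpow_natCast, pow_orderOf_eq_one,
          one_zpow]
      have hqx : orderOf (x.1 : G) ∣ q ^ k := by
        rw [← hk, Subgroup.orderOf_coe, Subgroup.orderOf_coe]
        exact orderOf_dvd_natCard x
      have hco : Nat.Coprime p (q ^ k) :=
        Nat.Coprime.pow_right _ ((Nat.coprime_primes hp.out hqp).2 (Ne.symm hqne))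
      have h4 := Nat.dvd_gcd (orderOf_dvd_of_pow_eq_one hpx) hqx
      rw [hco, Nat.dvd_one, orderOf_eq_one_iff] at h4
      exact Subtype.ext (Subtype.ext h4)
    · rintro rfl v
      exact Subtype.ext (smul_one v)
  haveI : Fintype (MulAction.fixedPoints U (P : Subgroup N)) := Fintype.ofFinite _
  have hmod := hU.card_modEq_card_fixedPoints (P : Subgroup N)
  rw [hfix, hk] at hmod
  refine hq q k hqp hqne hk0 ?_ (by simpa using hmod)
  rw [← hk]
  exact (Subgroup.card_subgroup_dvd_card (P : Subgroup N)).trans (Subgroup.card_subgroup_dvd_card N)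

/-- the kernel of the action on the cosets of a proper subgroup of a simple group is trivial -/
theorem exists_perm_subgroup [Finite G] (hs : IsSimpleGroup G) (H : Subgroup G) (n : ℕ)
    (hn : H.index = n) (h1 : 1 < n) :
    ∃ K : Subgroup (Equiv.Perm (Fin n)), Nonempty (G ≃* K) ∧ MulAction.IsPretransitive K (Fin n) ∧
      ∀ i : Fin n, Nat.card (MulAction.stabilizer K i) * n = Nat.card G := by
  have hc : Nat.card (G ⧸ H) = n := hn
  let e : G ⧸ H ≃ Fin n := (Finite.equivFinOfCardEq hc)
  let f : G →* Equiv.Perm (Fin n) :=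
    e.permCongrHom.toMonoidHom.comp (MulAction.toPermHom G (G ⧸ H))
  have hf : ∀ (g : G) (x : G ⧸ H), f g (e x) = e (g • x) := by
    intro g x
    simp [f]
  have hinj : Function.Injective f := by
    rw [← MonoidHom.ker_eq_bot_iff]
    rcases hs.eq_bot_or_eq_top_of_normal _ f.normal_ker with h | h
    · exact h
    exfalso
    have hsub : Subsingleton (G ⧸ H) := by
      constructor
      intro a b
      obtain ⟨g, rfl⟩ := MulAction.exists_smul_eq G b a
      have hg : g ∈ f.ker := by rw [h]; exact Subgroup.mem_top g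
      have := hf g b
      rw [MonoidHom.mem_ker.1 hg, Equiv.Perm.one_apply] at this
      exact e.injective this.symm
    have := Nat.card_of_subsingleton (default : G ⧸ H)
    omega
  haveI htr : MulAction.IsPretransitive f.range (Fin n) := by
    constructor
    intro a b
    obtain ⟨g, hg⟩ := MulAction.exists_smul_eq G (e.symm a) (e.symm b)
    refine ⟨⟨f g, g, rfl⟩, ?_⟩
    show f g a = b
    rw [← e.apply_symm_apply a, hf, hg, e.apply_symm_apply]
  refine ⟨f.range, ⟨MonoidHom.ofInjective hinj⟩, htr, fun i => ?_⟩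
  have h := Subgroup.card_mul_index (MulAction.stabilizer f.range i)
  rw [MulAction.index_stabilizer_of_transitive (G := f.range) i, Nat.card_fin] at h
  rw [h]
  exact Nat.card_congr (MonoidHom.ofInjective hinj).symm.toEquiv

end Cfsg.Agent.SporB.J3
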