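import Cfsg.Agent.SporB.J3.Spec
import Cfsg.Agent.SporB.J3.Generic
import Cfsg.Prelude.Def_Spor_J3

set_option autoImplicit false

/-! The matrix group of the certificate: its order, its centre and the large subgroup. -/

namespace Cfsg.Agent.SporB.J3

open scoped MatrixGroups

local notation "Z9" => ZMod 3 × ZMod 3

variable {F : Type*} [Field F] (w : F)

/-- a packed matrix lies in a subgroup -/
def InS (K : Subgroup (GL Z9 F)) (A : BM) : Prop :=
  ∃ x ∈ K, (x : Matrix Z9 Z9 F) = toM w A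

/-- the subgroup generated by two or three packed matrices -/
def gen3S (A B C : BM) : Subgroup (GL Z9 F) :=
  Subgroup.closure {x | (x : Matrix Z9 Z9 F) = toM w A ∨ (x : Matrix Z9 Z9 F) = toM w B ∨
    (x : Matrix Z9 Z9 F) = toM w C}

/-- the whole group -/
abbrev GS : Subgroup (GL Z9 F) := gen3S w gen0 gen1 gen2

/-- the subgroup of index 6156 -/
abbrev HS : Subgroup (GL Z9 F) := gen3S w lgen0 lgen1 lgen1

/-- the subgroup fixing the base vector -/
abbrev SS : Subgroup (GL Z9 F) := gen3S w sgen0 sgen1 sgen1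

/-- entrywise Frobenius -/
def conjM (x : Matrix Z9 Z9 F) : Matrix Z9 Z9 F := x.map fun a => a ^ 2

variable [Finite F] [CharP F 2] (hw : w ^ 2 + w + 1 = 0)

omit [Finite F] in
theorem conjM_mul (x y : Matrix Z9 Z9 F) : conjM (x * y) = conjM x * conjM y := by
  have h := Matrix.map_mul (L := x) (M := y) (f := frobenius F 2)
  exact h

omit [Finite F] [CharP F 2] in
theorem conjM_one : conjM (1 : Matrix Z9 Z9 F) = 1 :=
  Matrix.map_one _ (zero_pow two_ne_zero) (one_pow 2)

omit [Finite F] in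
theorem isUnit_conjM (x : GL Z9 F) : IsUnit (conjM (x : Matrix Z9 Z9 F)) :=
  ⟨⟨conjM x.val, conjM x.inv, by rw [← conjM_mul, x.val_inv, conjM_one],
    by rw [← conjM_mul, x.inv_val, conjM_one]⟩, rfl⟩

include hw

omit [Finite F] in
theorem inS_mul {K : Subgroup (GL Z9 F)} {A B : BM} (hA : InS w K A) (hB : InS w K B) :
    InS w K (bmul A B) := by
  obtain ⟨x, hx, ex⟩ := hA
  obtain ⟨y, hy, ey⟩ := hB
  exact ⟨x * y, mul_mem hx hy, by rw [Units.val_mul, ex, ey, toM_bmul w hw]⟩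

omit [Finite F] in
theorem inS_cancel {K : Subgroup (GL Z9 F)} {A X B : BM} (hA : InS w K A) (hB : InS w K B)
    (h : bmul A X = B) : InS w K X := by
  obtain ⟨x, hx, ex⟩ := hA
  obtain ⟨y, hy, ey⟩ := hB
  refine ⟨x⁻¹ * y, mul_mem (inv_mem hx) hy, ?_⟩
  rw [Units.val_mul, ey, ← h, toM_bmul w hw, ← ex, ← mul_assoc, Units.inv_mul, one_mul]

omit [Finite F] hw in
theorem inS_one {K : Subgroup (GL Z9 F)} : InS w K oneB :=
  ⟨1, one_mem _, by rw [toM_oneB, Units.val_one]⟩

omit [Finite F] [CharP F 2] hw in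
theorem inS_mono {K L : Subgroup (GL Z9 F)} (h : K ≤ L) {A : BM} (hA : InS w K A) : InS w L A := by
  obtain ⟨x, hx, ex⟩ := hA
  exact ⟨x, h hx, ex⟩

omit [Finite F] [CharP F 2] hw in
theorem gen3S_le {K : Subgroup (GL Z9 F)} {A B C : BM} (hA : InS w K A) (hB : InS w K B)
    (hC : InS w K C) : gen3S w A B C ≤ K := by
  rw [gen3S, Subgroup.closure_le]
  intro x hx
  rcases hx with h | h | h
  · obtain ⟨y, hy, ey⟩ := hA
    rwa [Units.ext (h.trans ey.symm)]
  · obtain ⟨y, hy, ey⟩ := hB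
    rwa [Units.ext (h.trans ey.symm)]
  · obtain ⟨y, hy, ey⟩ := hC
    rwa [Units.ext (h.trans ey.symm)]

omit [Finite F] in
theorem powB_spec (A : BM) : ∀ n, toM w (powB A n) = toM w A ^ n
  | 0 => by rw [powB, toM_oneB, pow_zero]
  | n + 1 => by rw [powB, toM_bmul w hw, powB_spec A n, pow_succ]

omit [Finite F] in
theorem exists_unit {A : BM} {n : ℕ} (hn : n ≠ 0) (h : powB A n = oneB) :
    ∃ x : GL Z9 F, (x : Matrix Z9 Z9 F) = toM w A :=
  ⟨Units.ofPowEqOne (toM w A) n (by rw [← powB_spec w hw, h, toM_oneB]) hn, rfl⟩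

omit [Finite F] in
theorem gens_mem : InS w (GS w) gen0 ∧ InS w (GS w) gen1 ∧ InS w (GS w) gen2 := by
  refine ⟨?_, ?_, ?_⟩
  · obtain ⟨x, hx⟩ := exists_unit w hw (n := 9) (by norm_num) consts.gpow0
    exact ⟨x, Subgroup.subset_closure (Or.inl hx), hx⟩
  · obtain ⟨x, hx⟩ := exists_unit w hw (n := 8) (by norm_num) consts.gpow1
    exact ⟨x, Subgroup.subset_closure (Or.inr (Or.inl hx)), hx⟩
  · obtain ⟨x, hx⟩ := exists_unit w hw (n := 2) (by norm_num) consts.gpow2
    exact ⟨x, Subgroup.subset_closure (Or.inr (Or.inr hx)), hx⟩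

omit [Finite F] in
theorem cT_mem : ∀ i < 6156, InS w (GS w) (cT i) := by
  suffices h : ∀ n, ∀ i < 6156, (crow i).dep < n → InS w (GS w) (cT i) from
    fun i hi => h _ i hi (Nat.lt_succ_self _)
  intro n
  induction n with
  | zero => intro i _ h; omega
  | succ n ih =>
    intro i hi hlt
    by_cases hb : i = cBase
    · subst hb
      rw [cT, consts.cbase]
      exact inS_one w
    obtain ⟨p, hp, hd, g, hg, e⟩ := (crow_spec hi).2.2.2.1 hb
    rw [e]
    refine inS_mul w hw ?_ (ih p hp (by omega))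
    rcases hg with rfl | rfl | rfl
    exacts [(gens_mem w hw).1, (gens_mem w hw).2.1, (gens_mem w hw).2.2]

omit [Finite F] in
theorem lgens_mem : InS w (GS w) lgen0 ∧ InS w (GS w) lgen1 := by
  obtain ⟨-, -, -, -, -, -, -, -, -, i1, i2, -, -, -⟩ := index_check
  have hsel : ∀ i < 6156, ∀ q : ℕ,
      (bif Nat.beq q 0 then (crow i).j0 else (crow i).j1) < 6156 := by
    intro i hi q
    have h := crowB_of_lt hi
    simp only [crowB, cedgeB, Bool.and_eq_true] at h
    cases Nat.beq q 0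
    · exact lt_of_blt (show Nat.blt (crow i).j1 6156 = true by tauto)
    · exact lt_of_blt (show Nat.blt (crow i).j0 6156 = true by tauto)
  have key : ∀ (L : BM) (i q : ℕ), i < 6156 →
      bmul (pick3 gen0 gen1 gen2 q) (crow i).T =
        bmul (crow (bif Nat.beq q 0 then (crow i).j0 else (crow i).j1)).T L →
      InS w (GS w) L := by
    intro L i q hi hq
    refine inS_cancel w hw (cT_mem w hw _ (hsel i hi q))
      (inS_mul w hw (?_ : InS w (GS w) (pick3 gen0 gen1 gen2 q)) (cT_mem w hw i hi))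
      hq.symm
    rcases pick3_mem gen0 gen1 gen2 q with e | e | e <;> rw [e]
    exacts [(gens_mem w hw).1, (gens_mem w hw).2.1, (gens_mem w hw).2.2]
  exact ⟨key _ _ _ i1 consts.ledge0, key _ _ _ i2 consts.ledge1⟩

omit [Finite F] in
theorem lgens_mem_HS : InS w (HS w) lgen0 ∧ InS w (HS w) lgen1 := by
  obtain ⟨⟨x, -, hx⟩, ⟨y, -, hy⟩⟩ := lgens_mem w hw
  exact ⟨⟨x, Subgroup.subset_closure (Or.inl hx), hx⟩,
    ⟨y, Subgroup.subset_closure (Or.inr (Or.inl hy)), hy⟩⟩

omit [Finite F] in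
theorem HS_le : HS w ≤ GS w :=
  gen3S_le w (lgens_mem w hw).1 (lgens_mem w hw).2 (lgens_mem w hw).2

omit [Finite F] in
theorem vU_mem : ∀ a < 255, InS w (HS w) (vU a) := by
  suffices h : ∀ n, ∀ a < 255, (vrow a).dep < n → InS w (HS w) (vU a) from
    fun a ha => h _ a ha (Nat.lt_succ_self _)
  intro n
  induction n with
  | zero => intro i _ h; omega
  | succ n ih =>
    intro a ha hlt
    by_cases hb : a = vBase
    · subst hb
      rw [vU, consts.vbase]
      exact inS_one w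
    obtain ⟨p, hp, hd, g, hg, e⟩ := (vrow_spec ha).2.2.1 hb
    rw [e]
    refine inS_mul w hw ?_ (ih p hp (by omega))
    rcases hg with rfl | rfl
    exacts [(lgens_mem_HS w hw).1, (lgens_mem_HS w hw).2]

omit [Finite F] in
theorem sgens_mem : InS w (HS w) sgen0 ∧ InS w (HS w) sgen1 := by
  obtain ⟨-, -, -, -, -, -, -, -, -, -, -, i1, i2, -⟩ := index_check
  have hsel : ∀ a < 255, ∀ q : ℕ, (bif Nat.beq q 0 then (vrow a).j0 else (vrow a).j1) < 255 := by
    intro a ha q
    have h : vrowB a = true := allB_spec vrows_check (by omega) (by omega)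
    simp only [vrowB, vedgeB, Bool.and_eq_true] at h
    cases Nat.beq q 0
    · exact lt_of_blt (show Nat.blt (vrow a).j1 255 = true by tauto)
    · exact lt_of_blt (show Nat.blt (vrow a).j0 255 = true by tauto)
  have key : ∀ (L : BM) (a q : ℕ), a < 255 →
      bmul (pick3 lgen0 lgen1 lgen1 q) (vrow a).U =
        bmul (vrow (bif Nat.beq q 0 then (vrow a).j0 else (vrow a).j1)).U L →
      InS w (HS w) L := by
    intro L a q ha hq
    refine inS_cancel w hw (vU_mem w hw _ (hsel a ha q))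
      (inS_mul w hw (?_ : InS w (HS w) (pick3 lgen0 lgen1 lgen1 q)) (vU_mem w hw a ha))
      hq.symm
    rcases pick3_mem lgen0 lgen1 lgen1 q with e | e | e <;> rw [e]
    exacts [(lgens_mem_HS w hw).1, (lgens_mem_HS w hw).2, (lgens_mem_HS w hw).2]
  exact ⟨key _ _ _ i1 consts.sedge0, key _ _ _ i2 consts.sedge1⟩

omit [Finite F] in
theorem SS_le : SS w ≤ HS w :=
  gen3S_le w (sgens_mem w hw).1 (sgens_mem w hw).2 (sgens_mem w hw).2

omit [Finite F] in
theorem sgens_mem_SS : InS w (SS w) sgen0 ∧ InS w (SS w) sgen1 := by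
  obtain ⟨⟨x, -, hx⟩, ⟨y, -, hy⟩⟩ := sgens_mem w hw
  exact ⟨⟨x, Subgroup.subset_closure (Or.inl hx), hx⟩,
    ⟨y, Subgroup.subset_closure (Or.inr (Or.inl hy)), hy⟩⟩

omit [Finite F] in
theorem sS_mem : ∀ k < 96, InS w (SS w) (sS k) := by
  suffices h : ∀ n, ∀ k < 96, (srow k).dep < n → InS w (SS w) (sS k) from
    fun k hk => h _ k hk (Nat.lt_succ_self _)
  intro n
  induction n with
  | zero => intro i _ h; omega
  | succ n ih =>
    intro k hk hlt
    by_cases hb : k = sBase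
    · subst hb
      rw [sS, consts.sbase]
      exact inS_one w
    obtain ⟨p, hp, hd, g, hg, e⟩ := (srow_spec hk).2.2.1 hb
    rw [e]
    refine inS_mul w hw ?_ (ih p hp (by omega))
    rcases hg with rfl | rfl
    exacts [(sgens_mem_SS w hw).1, (sgens_mem_SS w hw).2]

omit [Finite F] in
theorem US_mem {a k : ℕ} (ha : a < 255) (hk : k < 96) : InS w (HS w) (bmul (vU a) (sS k)) :=
  inS_mul w hw (vU_mem w hw a ha) (inS_mono w (SS_le w hw) (sS_mem w hw k hk))

theorem card_SS : Nat.card (SS w) = 96 := by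
  choose T hT hTv using fun k : Fin 96 => sS_mem w hw k k.2
  have hb := index_check.2.2.2.1
  have hone : T ⟨sBase, hb⟩ ∈ (⊥ : Subgroup (GL Z9 F)) := by
    rw [Subgroup.mem_bot]
    apply Units.ext
    rw [hTv, sS, consts.sbase, toM_oneB, Units.val_one]
  have hcard := card_decomp T ⊥ (s := {x : GL Z9 F | (x : Matrix Z9 Z9 F) = toM w sgen0 ∨
      (x : Matrix Z9 Z9 F) = toM w sgen1 ∨ (x : Matrix Z9 Z9 F) = toM w sgen1})
    (fun g hg k => ?_) hone hT bot_le (fun i j a ha b hb e => ?_)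
  · rw [Subgroup.card_bot, Nat.card_fin, mul_one] at hcard
    exact hcard
  · obtain ⟨⟨j0, hj0, e0⟩, ⟨j1, hj1, e1⟩, -⟩ := srow_spec k.2
    rcases hg with hg | hg | hg
    · exact ⟨⟨j0, hj0⟩, 1, one_mem _, Units.ext (by
        rw [mul_one, Units.val_mul, hg, hTv, hTv, ← toM_bmul w hw, e0])⟩
    all_goals
      exact ⟨⟨j1, hj1⟩, 1, one_mem _, Units.ext (by
        rw [mul_one, Units.val_mul, hg, hTv, hTv, ← toM_bmul w hw, e1])⟩
  · rw [Subgroup.mem_bot] at ha hb
    rw [ha, hb, mul_one, mul_one] at e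
    have e' := congrArg Units.val e
    rw [hTv, hTv] at e'
    have := toM_inj hw (srow_spec i.2).2.2.2.1 (srow_spec j.2).2.2.2.1 e'
    exact Fin.ext (eq_of_increasing (fun k => keyB (sS k)) (fun k hk => (srow_spec (by omega)).2.2.2.2 hk)
      i.2 j.2 (by rw [this]))

theorem SS_fix {x : GL Z9 F} (hx : x ∈ SS w) : (x : Matrix Z9 Z9 F) * toM w vecE = toM w vecE := by
  refine closure_induction_finite (P := fun x : GL Z9 F => (x : Matrix Z9 Z9 F) * toM w vecE = toM w vecE)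
    (by simp) (fun g hg => ?_) (fun a b ha hb => by rw [Units.val_mul, mul_assoc, hb, ha]) hx
  rcases hg with hg | hg | hg <;> rw [hg, ← toM_bmul w hw]
  · rw [consts.sfix0]
  all_goals rw [consts.sfix1]

theorem card_HS : Nat.card (HS w) = 24480 := by
  choose T hT hTv using fun a : Fin 255 => vU_mem w hw a a.2
  have hb := index_check.2.2.1
  have hone : T ⟨vBase, hb⟩ ∈ SS w := by
    have : T ⟨vBase, hb⟩ = 1 := Units.ext (by
      rw [hTv, vU, consts.vbase, toM_oneB, Units.val_one])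
    rw [this]; exact one_mem _
  have hcard := card_decomp T (SS w) (s := {x : GL Z9 F | (x : Matrix Z9 Z9 F) = toM w lgen0 ∨
      (x : Matrix Z9 Z9 F) = toM w lgen1 ∨ (x : Matrix Z9 Z9 F) = toM w lgen1})
    (fun g hg a => ?_) hone hT (SS_le w hw) (fun a b x hx y hy e => ?_)
  · rw [card_SS w hw, Nat.card_fin] at hcard
    exact hcard
  · obtain ⟨⟨b0, hb0, k0, hk0, e0⟩, ⟨b1, hb1, k1, hk1, e1⟩, -⟩ := vrow_spec a.2
    rcases hg with hg | hg | hg
    · obtain ⟨y, hy, ey⟩ := sS_mem w hw k0 hk0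
      exact ⟨⟨b0, hb0⟩, y, hy, Units.ext (by
        rw [Units.val_mul, Units.val_mul, hg, hTv, hTv, ey, ← toM_bmul w hw, ← toM_bmul w hw, e0])⟩
    all_goals
      obtain ⟨y, hy, ey⟩ := sS_mem w hw k1 hk1
      exact ⟨⟨b1, hb1⟩, y, hy, Units.ext (by
        rw [Units.val_mul, Units.val_mul, hg, hTv, hTv, ey, ← toM_bmul w hw, ← toM_bmul w hw, e1])⟩
  · have e' := congrArg (fun z : GL Z9 F => (z : Matrix Z9 Z9 F) * toM w vecE) e
    simp only [Units.val_mul, mul_assoc, SS_fix w hw hx, SS_fix w hw hy, hTv] at e'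
    rw [← toM_bmul w hw, ← toM_bmul w hw] at e'
    have := toM_inj hw (goodB_bmul _ _) (goodB_bmul _ _) e'
    rw [(vrow_spec a.2).2.2.2.1, (vrow_spec b.2).2.2.2.1] at this
    exact Fin.ext (eq_of_increasing (fun a => keyB (vrow a).V) (fun a ha => (vrow_spec (by omega)).2.2.2.2 ha)
      a.2 b.2 (by rw [this]))

omit [Finite F] [CharP F 2] in
theorem wpow_mod (n : ℕ) [CharP F 2] : w ^ n = w ^ (n % 3) := by
  conv_lhs => rw [← Nat.div_add_mod n 3, pow_add, pow_mul, w_cube hw, one_pow, one_mul]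

/-- elements of the large subgroup preserve the twisted form up to a scalar -/
theorem HS_form {x : GL Z9 F} (hx : x ∈ HS w) :
    ∃ n < 3, (x : Matrix Z9 Z9 F) * toM w formX = w ^ n • (toM w formX * conjM (x : Matrix Z9 Z9 F)) := by
  refine closure_induction_finite (P := fun x : GL Z9 F =>
      ∃ n < 3, (x : Matrix Z9 Z9 F) * toM w formX = w ^ n • (toM w formX * conjM (x : Matrix Z9 Z9 F)))
    ⟨0, by norm_num, by rw [Units.val_one, conjM_one, pow_zero, one_smul, one_mul, mul_one]⟩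
    (fun g hg => ?_) (fun a b ha hb => ?_) hx
  · obtain ⟨-, -, -, -, -, -, -, -, -, -, -, -, -, -, -, -, c0, c1⟩ := index_check
    rcases hg with hg | hg | hg
    · refine ⟨lc0, c0, ?_⟩
      rw [hg, ← toM_bmul w hw,
        consts.lform0,
        toM_bmul w hw, toM_smulB hw _ c0, toM_conjB hw, Matrix.smul_mul]
      rfl
    all_goals
      refine ⟨lc1, c1, ?_⟩
      rw [hg, ← toM_bmul w hw,
        consts.lform1,
        toM_bmul w hw, toM_smulB hw _ c1, toM_conjB hw, Matrix.smul_mul]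
      rfl
  · obtain ⟨m, hm, em⟩ := ha
    obtain ⟨n, hn, en⟩ := hb
    refine ⟨(n + m) % 3, Nat.mod_lt _ (by norm_num), ?_⟩
    rw [← wpow_mod w hw, Units.val_mul, conjM_mul, mul_assoc, en, Matrix.mul_smul, ← mul_assoc, em,
      Matrix.smul_mul, smul_smul, ← pow_add, mul_assoc]

/-- the base invariant moved by an element of a coset -/
theorem coset_form {i : ℕ} (hi : i < 6156) {x k : GL Z9 F} (hk : k ∈ HS w)
    (hx : (x : Matrix Z9 Z9 F) = toM w (cT i) * (k : Matrix Z9 Z9 F)) :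
    ∃ n < 3, (x : Matrix Z9 Z9 F) * toM w formX = w ^ n • (toM w (cK i) * conjM (x : Matrix Z9 Z9 F)) := by
  obtain ⟨n, hn, en⟩ := HS_form w hw hk
  obtain ⟨c, hc, ec⟩ := (crow_spec hi).2.2.2.2.1
  refine ⟨(n + c) % 3, Nat.mod_lt _ (by norm_num), ?_⟩
  rw [← wpow_mod w hw, hx, mul_assoc, en, Matrix.mul_smul, ← mul_assoc, ← toM_bmul w hw, ec,
    toM_bmul w hw, toM_smulB hw _ hc, toM_conjB hw, Matrix.smul_mul, Matrix.smul_mul, smul_smul,
    ← pow_add, conjM_mul, mul_assoc]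
  rfl

theorem card_GS : Nat.card (GS w) = 150698880 := by
  choose T hT hTv using fun i : Fin 6156 => cT_mem w hw i i.2
  have hb := index_check.1
  have hone : T ⟨cBase, hb⟩ ∈ HS w := by
    have : T ⟨cBase, hb⟩ = 1 := Units.ext (by
      rw [hTv, cT, consts.cbase, toM_oneB, Units.val_one])
    rw [this]; exact one_mem _
  have hcard := card_decomp T (HS w) (s := {x : GL Z9 F | (x : Matrix Z9 Z9 F) = toM w gen0 ∨
      (x : Matrix Z9 Z9 F) = toM w gen1 ∨ (x : Matrix Z9 Z9 F) = toM w gen2})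
    (fun g hg i => ?_) hone hT (HS_le w hw) (fun i j a ha b hb e => ?_)
  · rw [card_HS w hw, Nat.card_fin] at hcard
    exact hcard
  · have hs := crow_spec i.2
    have hE : ∃ A, (g : Matrix Z9 Z9 F) = toM w A ∧ CEdge A i := by
      rcases hg with hg | hg | hg
      · exact ⟨_, hg, hs.1⟩
      · exact ⟨_, hg, hs.2.1⟩
      · exact ⟨_, hg, hs.2.2.1⟩
    obtain ⟨A, hA, j, hj, a, ha, k, hk, e⟩ := hE
    obtain ⟨y, hy, ey⟩ := US_mem w hw ha hk
    exact ⟨⟨j, hj⟩, y, hy, Units.ext (by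
      rw [Units.val_mul, Units.val_mul, hA, hTv, hTv, ey, ← toM_bmul w hw, ← toM_bmul w hw, e])⟩
  · obtain ⟨m, hm, em⟩ := coset_form w hw i.2 (x := T i * a) ha (by rw [Units.val_mul, hTv])
    obtain ⟨n, hn, en⟩ := coset_form w hw j.2 (x := T i * a) hb
      (by rw [e, Units.val_mul, hTv])
    rw [em, ← Matrix.smul_mul, ← Matrix.smul_mul, (isUnit_conjM _).mul_left_inj] at en
    have hs := crow_spec i.2
    have hs' := crow_spec j.2
    obtain ⟨p, hp⟩ := hs.2.2.2.2.2.2.1
    obtain ⟨q, hq⟩ := hs'.2.2.2.2.2.2.1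
    have hinv : w ^ (3 - m) * w ^ m = 1 := by
      rw [← pow_add, Nat.sub_add_cancel hm.le, w_cube hw]
    have e2 : toM w (cK i) = w ^ ((3 - m + n) % 3) • toM w (cK j) := by
      rw [← wpow_mod w hw, pow_add, ← smul_smul, ← en, smul_smul, hinv, one_smul]
    have := norm_eq hw (Nat.mod_lt _ (by norm_num)) hs.2.2.2.2.2.1 hs'.2.2.2.2.2.1 hp hq e2
    exact Fin.ext (eq_of_increasing (fun i => keyB (cK i))
      (fun i hi => (crow_spec (by omega)).2.2.2.2.2.2.2.1 hi) i.2 j.2 (by rw [this]))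

end Cfsg.Agent.SporB.J3
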