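import Cfsg.Agent.SporB.J3.InvTests

set_option autoImplicit false

namespace Cfsg.Agent.SporB.J3

theorem qrows_check : allB qRowB 0 32 = true := by decide +kernel

theorem hrows_check : allB hRowB 0 60 = true := by decide +kernel

theorem prows_check : allB pRowB 0 128 = true := by decide +kernel

theorem irows_check : allB iRowB 0 323 = true := by decide +kernel

theorem small_check :
    (qTab.length = 32 ∧ hTab.length = 60 ∧ fixPts.length = 76 ∧ vIdx.length = 4) ∧
    beqB (qB 0) oneB = true ∧ beqB (hB 0) oneB = true ∧ beqB tB oneB = false ∧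
    (∀ n : Fin 4, vIdx.getD n.val 0 < 60) ∧
    (∀ m n : Fin 4, ∃ k : Fin 4, hM (vIdx.getD m.val 0) (vIdx.getD n.val 0) = vIdx.getD k.val 0) := by
  decide +kernel

theorem v_distinct : ∀ m n : Fin 4, vIdx.getD m.val 0 = vIdx.getD n.val 0 → m = n := by
  decide +kernel

theorem q_table :
    (∀ i : Fin 32, (∀ j : Fin 32, qM i.val j.val = qM j.val i.val) → i.val = 0 ∨ i.val = 1) ∧
    (∀ i j : Fin 32, qM i.val j.val = qM j.val i.val ∨ qM i.val j.val = qM 1 (qM j.val i.val)) ∧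
    (∀ i : Fin 32, qM i.val i.val = 0 ∨ qM i.val i.val = 1) ∧
    (∃ i j : Fin 32, qM i.val j.val ≠ qM j.val i.val) ∧
    (∀ j : Fin 60, hC j.val 1 = 1) ∧
    (∃ j : Fin 60, ∃ i : Fin 32, hC j.val i.val ≠ i.val ∧ hC j.val i.val ≠ qM i.val 1) ∧
    (∃ i : Fin 32, 1 < i.val ∧ qM i.val i.val = 0) := by
  decide +kernel

theorem q_rank : ∀ i j : Fin 32, qM i.val i.val = 0 → qM j.val j.val = 0 → i.val ≠ 0 → j.val ≠ 0 →
    i ≠ j → qM i.val j.val = qM j.val i.val → ∀ k : Fin 32, qM k.val k.val = 0 →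
    qM i.val k.val = qM k.val i.val → qM j.val k.val = qM k.val j.val →
    k.val = 0 ∨ k.val = i.val ∨ k.val = j.val ∨ k.val = qM i.val j.val := by
  decide +kernel

theorem h_table :
    (∀ j : Fin 60, (hP j.val).length = 5 ∧ (∀ x : Fin 5, (hP j.val).getD x.val 9 < 5) ∧
      (hP j.val).Nodup) ∧
    (∀ i j : Fin 60, ∀ x : Fin 5, (hP (hM i.val j.val)).getD x.val 9 =
      (hP i.val).getD ((hP j.val).getD x.val 9) 9) ∧
    (∀ i j : Fin 60, hP i.val = hP j.val → i = j) := by
  decide +kernel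

end Cfsg.Agent.SporB.J3
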