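import Cfsg.Agent.SporB.J3.Tests
import Cfsg.Agent.SporB.J3.InvData

set_option autoImplicit false

/-! Boolean tests for the centraliser of an involution. -/

namespace Cfsg.Agent.SporB.J3

/-- element of the extraspecial subgroup -/
def qB (i : ℕ) : BM := qTab.getD i oneB

/-- element of the complement -/
def hB (j : ℕ) : BM := hTab.getD j oneB

/-- product index -/
def qM (i j : ℕ) : ℕ := (qMul.getD i []).getD j 0

/-- product index -/
def hM (i j : ℕ) : ℕ := (hMul.getD i []).getD j 0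

/-- conjugation index -/
def hC (j i : ℕ) : ℕ := (hAct.getD j []).getD i 0

/-- a permutation of five points as a list -/
def hP (j : ℕ) : List ℕ := hPerm.getD j []

/-- the involution -/
def tB : BM := qB 1

/-- product of a witness -/
noncomputable def tripB (r : ℕ × ℕ × ℕ) : BM := bmul (crow r.1).T (bmul (vrow r.2.1).U (srow r.2.2).S)

noncomputable def witOK (A : BM) (r : ℕ × ℕ × ℕ) : Bool :=
  Nat.blt r.1 6156 && Nat.blt r.2.1 255 && Nat.blt r.2.2 96 && beqB A (tripB r)

noncomputable def qRowB (i : ℕ) : Bool :=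
  witOK (qB i) (qWit.getD i (0, 0, 0)) && goodB (qB i) &&
  (List.range 32).all (fun j =>
    Nat.blt (qM i j) 32 && beqB (bmul (qB i) (qB j)) (qB (qM i j)) &&
    (Nat.beq i j || !beqB (qB i) (qB j)))

noncomputable def hRowB (i : ℕ) : Bool :=
  witOK (hB i) (hWit.getD i (0, 0, 0)) && goodB (hB i) &&
  (List.range 60).all (fun j =>
    Nat.blt (hM i j) 60 && beqB (bmul (hB i) (hB j)) (hB (hM i j))) &&
  (List.range 32).all (fun j =>
    Nat.blt (hC i j) 32 && beqB (bmul (hB i) (qB j)) (bmul (qB (hC i j)) (hB i)))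

/-- the scalar test -/
def scalB (A : BM) : Bool := beqB A oneB || beqB A (smulB 1 oneB) || beqB A (smulB 2 oneB)

noncomputable def pRowB (n : ℕ) : Bool :=
  !scalB (bmul (bmul (qB (n / 4)) (hB (vIdx.getD (n % 4) 0)))
      (bmul (qB (n / 4)) (hB (vIdx.getD (n % 4) 0)))) ||
  scalB (bmul (qB (n / 4)) (hB (vIdx.getD (n % 4) 0))) ||
  (Nat.blt (pConj.getD n (0, 0, 0)).1 6156 && Nat.blt (pConj.getD n (0, 0, 0)).2.1 255 &&
    Nat.blt (pConj.getD n (0, 0, 0)).2.2 96 &&
    beqB (bmul (tripB (pConj.getD n (0, 0, 0))) tB)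
      (bmul (bmul (qB (n / 4)) (hB (vIdx.getD (n % 4) 0))) (tripB (pConj.getD n (0, 0, 0)))))

/-- element of the large subgroup -/
noncomputable def iB (n : ℕ) : BM := bmul (vrow (iWit.getD n (0, 0)).1).U (srow (iWit.getD n (0, 0)).2).S

noncomputable def iRowB (n : ℕ) : Bool :=
  Nat.blt (iWit.getD n (0, 0)).1 255 && Nat.blt (iWit.getD n (0, 0)).2 96 &&
  goodB (iB n) && beqB (bmul (iB n) (iB n)) oneB && !beqB (iB n) oneB &&
  (Nat.beq (n + 1) 323 || Nat.blt (keyB (iB n)) (keyB (iB (n + 1))))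

noncomputable def fRowB (i : ℕ) : Bool :=
  fixPts.any (Nat.beq i) ||
  (let L := bmul tB (crow i).K
   let R := bmul (crow i).K (conjB tB)
   !beqB L R && !beqB L (smulB 1 R) && !beqB L (smulB 2 R))

end Cfsg.Agent.SporB.J3
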