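import Cfsg.Agent.SporB.J3.InvCheck4
import Cfsg.Agent.FusionSimple.ExtraFiveEquiv
import Cfsg.Agent.PGroup.Extraspecial
import Cfsg.Agent.LargeExtra.Pair
import Mathlib.GroupTheory.Complement

/-!
The centraliser of an involution from the certificate tables: abstract group theory.
-/

set_option autoImplicit false

open scoped commutatorElement

namespace Cfsg.Agent.SporB.J3

/-- the facts read off the tables -/
structure InvCert (J : Type*) [Group J] where
  q : Fin 32 → J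
  h : Fin 60 → J
  hq0 : q 0 = 1
  hh0 : h 0 = 1
  q_inj : Function.Injective q
  qmul : ∀ i j k : Fin 32, qM i.val j.val = k.val → q i * q j = q k
  hmul : ∀ i j k : Fin 60, hM i.val j.val = k.val → h i * h j = h k
  hconj : ∀ (j : Fin 60) (i k : Fin 32), hC j.val i.val = k.val → h j * q i = q k * h j
  qclosed : ∀ i j : Fin 32, qM i.val j.val < 32
  hclosed : ∀ i j : Fin 60, hM i.val j.val < 60
  cclosed : ∀ (j : Fin 60) (i : Fin 32), hC j.val i.val < 32
  pconj : ∀ (i : Fin 32) (v : Fin 60) (n : Fin 4), vIdx.getD n.val 0 = v.val →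
    (q i * h v) * (q i * h v) ≠ 1 ∨ q i * h v = 1 ∨ ∃ g, g * q 1 = (q i * h v) * g
  K : Subgroup J
  card_K : Nat.card K ≤ 8160
  T : Fin 76 → J
  fix : ∀ g : J, g⁻¹ * q 1 * g ∈ K → ∃ i, ∃ k ∈ K, g = T i * k
  y : Fin 323 → J
  y_inj : Function.Injective y
  y_mem : ∀ n, y n ∈ K
  y_sq : ∀ n, y n * y n = 1
  y_ne : ∀ n, y n ≠ 1
  card_J : Nat.card J = 50232960

theorem exists_range_subgroup {J : Type*} [Group J] [Finite J] {ι : Type*} (f : ι → J)
    (h0 : ∃ i, f i = 1) (hm : ∀ i j, ∃ k, f i * f j = f k) :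
    ∃ H : Subgroup J, ∀ x, x ∈ H ↔ ∃ i, f i = x := by
  let M : Submonoid J :=
    { carrier := Set.range f
      one_mem' := h0
      mul_mem' := by
        rintro _ _ ⟨i, rfl⟩ ⟨j, rfl⟩
        obtain ⟨k, e⟩ := hm i j
        exact ⟨k, e.symm⟩ }
  refine ⟨{ M with inv_mem' := fun {x} hx => ?_ }, fun x => Iff.rfl⟩
  obtain ⟨n, hn⟩ := (isOfFinOrder_of_finite x).mem_powers_iff_mem_zpowers.2
    (Subgroup.inv_mem _ (Subgroup.mem_zpowers x))
  show x⁻¹ ∈ M
  rw [← hn]
  exact M.pow_mem hx n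

theorem tab_cancel : ∀ a b i : Fin 32, qM a.val i.val = qM b.val i.val → a = b := by
  decide +kernel

theorem tab_assoc : ∀ k i : Fin 32, qM 1 (qM k.val i.val) = qM (qM k.val 1) i.val := by
  decide +kernel

theorem tab_one : ∀ i : Fin 32, qM i.val 1 = qM 1 i.val ∧ qM i.val 0 = i.val := by decide +kernel

theorem tab_row : ∀ m : Fin 60, ((List.range 60).map (hM m.val)).Nodup ∧
    ∃ k : Fin 60, hM k.val m.val = 0 := by
  decide +kernel

theorem tab_faithful : ∀ j : Fin 60, (∀ k : Fin 32, hC j.val k.val = k.val ∨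
    hC j.val k.val = qM k.val 1) → j.val = 0 := by
  decide +kernel

theorem tab_v_zero : ∃ n : Fin 4, vIdx.getD n.val 0 = 0 := by decide +kernel

/-- the permutation of five points of an element of the complement -/
noncomputable def perm5 (j : Fin 60) : Equiv.Perm (Fin 5) :=
  Equiv.ofBijective (fun x => (⟨(hP j.val).getD x.val 9, (h_table.1 j).2.1 x⟩ : Fin 5)) (by
    refine (Finite.injective_iff_bijective).1 fun a b e => ?_
    obtain ⟨hlen, -, hnd⟩ := h_table.1 j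
    have e' : (hP j.val).getD a.val 9 = (hP j.val).getD b.val 9 := congrArg Fin.val e
    rw [List.getD_eq_getElem _ _ (by omega), List.getD_eq_getElem _ _ (by omega)] at e'
    exact Fin.ext (hnd.getElem_inj_iff.1 e'))

theorem perm5_apply (j : Fin 60) (x : Fin 5) : (perm5 j x).val = (hP j.val).getD x.val 9 := rfl

theorem perm5_mul {i j k : Fin 60} (e : hM i.val j.val = k.val) :
    perm5 k = perm5 i * perm5 j := by
  refine Equiv.ext fun x => Fin.ext ?_
  show (hP k.val).getD x.val 9 = (hP i.val).getD ((hP j.val).getD x.val 9) 9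
  rw [← e]
  exact h_table.2.1 i j x

theorem perm5_injective : Function.Injective perm5 := by
  intro i j e
  refine h_table.2.2 i j (List.ext_getElem (by rw [(h_table.1 i).1, (h_table.1 j).1]) ?_)
  intro n h1 h2
  have hn : n < 5 := by rw [← (h_table.1 i).1]; exact h1
  have e' : (hP i.val).getD n 9 = (hP j.val).getD n 9 :=
    congrArg (fun σ : Equiv.Perm (Fin 5) => (σ ⟨n, hn⟩).val) e
  rwa [List.getD_eq_getElem _ _ h1, List.getD_eq_getElem _ _ h2] at e'

theorem perm5_one : perm5 0 = 1 := by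
  have h := perm5_mul (i := 0) (j := 0) (k := 0) (by decide +kernel)
  exact (left_eq_mul.1 h)

theorem tab_squares : ∀ j : Fin 60, ∃ a b : Fin 60, hM (hM a.val a.val) (hM b.val b.val) = j.val := by
  decide +kernel

theorem tab_lt : ∀ i j : Fin 60, hM i.val j.val < 60 := by decide +kernel

theorem perm5_even (j : Fin 60) : perm5 j ∈ alternatingGroup (Fin 5) := by
  rw [Equiv.Perm.mem_alternatingGroup]
  obtain ⟨a, b, he⟩ := tab_squares j
  rw [perm5_mul (i := ⟨_, tab_lt a a⟩) (j := ⟨_, tab_lt b b⟩) he,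
    perm5_mul (i := a) (j := a) (k := ⟨_, tab_lt a a⟩) rfl,
    perm5_mul (i := b) (j := b) (k := ⟨_, tab_lt b b⟩) rfl, map_mul, map_mul, map_mul]
  rcases Int.units_eq_one_or (Equiv.Perm.sign (perm5 a)) with e1 | e1 <;>
    rcases Int.units_eq_one_or (Equiv.Perm.sign (perm5 b)) with e2 | e2 <;> simp [e1, e2]

namespace InvCert

variable {J : Type*} [Group J] [Finite J] (c : InvCert J)

set_option linter.unusedSectionVars false

/-- product index in the extraspecial subgroup -/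
def qmi (i j : Fin 32) : Fin 32 := ⟨qM i.val j.val, c.qclosed i j⟩

/-- product index in the complement -/
def hmi (i j : Fin 60) : Fin 60 := ⟨hM i.val j.val, c.hclosed i j⟩

/-- conjugation index -/
def cci (j : Fin 60) (i : Fin 32) : Fin 32 := ⟨hC j.val i.val, c.cclosed j i⟩

theorem q_mul (i j : Fin 32) : c.q i * c.q j = c.q (c.qmi i j) := c.qmul _ _ _ rfl

theorem h_mul (i j : Fin 60) : c.h i * c.h j = c.h (c.hmi i j) := c.hmul _ _ _ rfl

theorem h_q (j : Fin 60) (i : Fin 32) : c.h j * c.q i = c.q (c.cci j i) * c.h j := c.hconj _ _ _ rfl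

theorem q_eq {i j : Fin 32} (e : c.q i = c.q j) : i.val = j.val := congrArg Fin.val (c.q_inj e)

theorem eq_zero_of_h_eq_q {j : Fin 60} {i : Fin 32} (hj : c.h j = c.q i) : j = 0 := by
  refine Fin.ext (tab_faithful j fun k => ?_)
  have e := c.h_q j k
  rw [hj, c.q_mul, c.q_mul] at e
  have e1 : qM i.val k.val = qM (hC j.val k.val) i.val := c.q_eq e
  rcases q_table.2.1 i k with r | r
  · rw [r] at e1
    exact Or.inl (congrArg Fin.val (tab_cancel k (c.cci j k) i e1)).symm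
  · rw [r, tab_assoc k i] at e1
    exact Or.inr (congrArg Fin.val (tab_cancel (c.qmi k 1) (c.cci j k) i e1)).symm

theorem h_injective : Function.Injective c.h := by
  intro i j e
  obtain ⟨k, hk⟩ := (tab_row j).2
  have h1 : c.h (c.hmi k i) = c.q 0 := by
    rw [← c.h_mul, e, c.h_mul, show c.hmi k j = 0 from Fin.ext hk, c.hh0, c.hq0]
  have h2 : hM k.val i.val = hM k.val j.val := by
    rw [hk]; exact congrArg Fin.val (c.eq_zero_of_h_eq_q h1)
  have hnd := (tab_row k).1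
  have := hnd.getElem_inj_iff (hi := show i.val < ((List.range 60).map (hM k.val)).length by simp)
    (hj := show j.val < ((List.range 60).map (hM k.val)).length by simp) |>.1 (by simpa using h2)
  exact Fin.ext this

/-- products of elements of `Q` and the complement are distinct -/
theorem qh_injective {i i' : Fin 32} {j j' : Fin 60} (e : c.q i * c.h j = c.q i' * c.h j') :
    i = i' ∧ j = j' := by
  obtain ⟨k, hk⟩ := (tab_row j').2
  have hk' : c.h j' * c.h k = 1 := by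
    have : c.h k * c.h j' = 1 := by rw [c.h_mul, show c.hmi k j' = 0 from Fin.ext hk, c.hh0]
    exact mul_eq_one_comm.1 this
  have hi' : ∀ i : Fin 32, ∃ l : Fin 32, qM l.val i.val = 0 := by decide +kernel
  obtain ⟨l, hl⟩ := hi' i
  have hl' : c.q l * c.q i = 1 := by rw [c.q_mul, show c.qmi l i = 0 from Fin.ext hl, c.hq0]
  have h1 : c.h (c.hmi j k) = c.q (c.qmi l i') := by
    rw [← c.h_mul, ← c.q_mul]
    calc c.h j * c.h k = c.q l * (c.q i * c.h j) * c.h k := by rw [← mul_assoc (c.q l), hl', one_mul]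
      _ = c.q l * c.q i' * (c.h j' * c.h k) := by rw [e]; group
      _ = _ := by rw [hk', mul_one]
  have h2 := c.eq_zero_of_h_eq_q h1
  have h3 : c.h j * c.h k = 1 := by rw [c.h_mul, h2, c.hh0]
  obtain rfl := c.h_injective (mul_right_cancel (h3.trans hk'.symm))
  exact ⟨c.q_inj (mul_right_cancel e), rfl⟩

theorem mul_qh (i i' : Fin 32) (j j' : Fin 60) :
    (c.q i * c.h j) * (c.q i' * c.h j') = c.q (c.qmi i (c.cci j i')) * c.h (c.hmi j j') := by
  rw [← c.q_mul, ← c.h_mul]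
  calc _ = c.q i * (c.h j * c.q i') * c.h j' := by group
    _ = _ := by rw [c.h_q]; group

theorem q_one_comm (i : Fin 32) : c.q i * c.q 1 = c.q 1 * c.q i := by
  rw [c.q_mul, c.q_mul]
  exact congrArg c.q (Fin.ext (tab_one i).1)

theorem t_comm (i : Fin 32) (j : Fin 60) :
    (c.q i * c.h j) * c.q 1 = c.q 1 * (c.q i * c.h j) := by
  rw [mul_assoc, c.h_q, show c.cci j 1 = 1 from Fin.ext (q_table.2.2.2.2.1 j), ← mul_assoc,
    c.q_one_comm, mul_assoc]

theorem t_sq : c.q 1 * c.q 1 = 1 := by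
  rw [c.q_mul, show c.qmi 1 1 = 0 from Fin.ext (by decide +kernel : qM 1 1 = 0), c.hq0]

theorem t_ne : c.q 1 ≠ 1 := fun e => by
  have := c.q_inj (e.trans c.hq0.symm)
  exact absurd this (by decide)

include c in
/-- a Sylow subgroup made of the extraspecial subgroup and a four-group -/
theorem exists_sylow : ∃ P : Sylow 2 J,
    ∀ x, x ∈ (P : Subgroup J) → ∃ (i : Fin 32) (v : Fin 60) (n : Fin 4),
      vIdx.getD n.val 0 = v.val ∧ c.q i * c.h v = x := by
  have : Fact (Nat.Prime 2) := ⟨Nat.prime_two⟩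
  have hv : ∀ n : Fin 4, vIdx.getD n.val 0 < 60 := small_check.2.2.2.2.1
  let f : Fin 32 × Fin 4 → J := fun p => c.q p.1 * c.h ⟨_, hv p.2⟩
  obtain ⟨P, hP⟩ := exists_range_subgroup f
    (by
      obtain ⟨n, hn⟩ := tab_v_zero
      refine ⟨(0, n), ?_⟩
      show c.q 0 * c.h ⟨_, hv n⟩ = 1
      rw [show (⟨_, hv n⟩ : Fin 60) = 0 from Fin.ext hn, c.hq0, c.hh0, one_mul])
    (fun p p' => by
      obtain ⟨k, hk⟩ := small_check.2.2.2.2.2 p.2 p'.2
      exact ⟨(c.qmi p.1 (c.cci ⟨_, hv p.2⟩ p'.1), k), (c.mul_qh _ _ _ _).trans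
        (congrArg (fun v => c.q _ * c.h v) (Fin.ext hk))⟩)
  have hf : Function.Injective f := fun p p' e => by
    obtain ⟨a, b⟩ := c.qh_injective e
    exact Prod.ext a (v_distinct _ _ (congrArg Fin.val b))
  have hcard : Nat.card P = 128 := by
    rw [← SetLike.coe_sort_coe, show (P : Set J) = Set.range f from Set.ext fun x => hP x,
      Nat.card_range_of_injective hf]
    simp
  refine ⟨Sylow.ofCard P ?_, fun x hx => ?_⟩
  · have h26 : ¬ 2 ∣ 392445 := by norm_num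
    rw [hcard, c.card_J, show 50232960 = 2 ^ 7 * 392445 by norm_num,
      Nat.factorization_mul (by norm_num) (by norm_num), Finsupp.add_apply,
      Nat.Prime.factorization_pow Nat.prime_two, Finsupp.single_eq_same,
      Nat.factorization_eq_zero_of_not_dvd h26]
    norm_num
  · obtain ⟨p, hp⟩ := (hP x).1 hx
    exact ⟨p.1, _, p.2, rfl, hp⟩

/-- all involutions are conjugate -/
theorem one_class {x : J} (h2 : x * x = 1) (h1 : x ≠ 1) : ∃ g : J, g * c.q 1 * g⁻¹ = x := by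
  have : Fact (Nat.Prime 2) := ⟨Nat.prime_two⟩
  obtain ⟨P, hP⟩ := c.exists_sylow
  have hx : IsPGroup 2 (Subgroup.zpowers x) := IsPGroup.of_card (n := 1) (by
    rw [Nat.card_zpowers, orderOf_eq_prime (by rw [pow_two, h2]) h1, pow_one])
  obtain ⟨R, hR⟩ := hx.exists_le_sylow
  obtain ⟨a, rfl⟩ := MulAction.exists_smul_eq J P R
  obtain ⟨s, hs, e⟩ := hR (Subgroup.mem_zpowers x)
  obtain ⟨i, v, n, hn, rfl⟩ := hP s hs
  have e' : a * (c.q i * c.h v) * a⁻¹ = x := e
  rcases c.pconj i v n hn with r | r | ⟨g, hg⟩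
  · refine absurd ?_ r
    have : x * x = a * ((c.q i * c.h v) * (c.q i * c.h v)) * a⁻¹ := by rw [← e']; group
    rw [h2] at this
    exact conj_eq_one_iff.1 this.symm
  · exact absurd (by rw [← e', r, mul_one, mul_inv_cancel]) h1
  · refine ⟨a * g, ?_⟩
    rw [← e']
    calc a * g * c.q 1 * (a * g)⁻¹ = a * (g * c.q 1) * g⁻¹ * a⁻¹ := by group
      _ = _ := by rw [hg]; group

theorem card_C_le : Nat.card (Subgroup.centralizer ({c.q 1} : Set J)) ≤ 1920 := by
  choose g hg using fun n => c.one_class (c.y_sq n) (c.y_ne n)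
  set C := Subgroup.centralizer ({c.q 1} : Set J)
  have key : ∀ x ∈ C, ∀ n, (x * (g n)⁻¹)⁻¹ * c.q 1 * (x * (g n)⁻¹) = c.y n := by
    intro x hx n
    have hx' : x * c.q 1 = c.q 1 * x := Subgroup.mem_centralizer_singleton_iff.1 hx
    rw [show (x * (g n)⁻¹)⁻¹ * c.q 1 * (x * (g n)⁻¹) = g n * (x⁻¹ * (c.q 1 * x)) * (g n)⁻¹ by group,
      ← hx', inv_mul_cancel_left, hg]
  have hf : ∀ p : ↥C × Fin 323, ∃ r : Fin 76 × ↥c.K, (p.1 : J) * (g p.2)⁻¹ = c.T r.1 * r.2 := by
    rintro ⟨⟨x, hx⟩, n⟩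
    obtain ⟨i, k, hk, e⟩ := c.fix _ ((key x hx n).symm ▸ c.y_mem n)
    exact ⟨⟨i, k, hk⟩, e⟩
  choose f hf using hf
  have hinj : Function.Injective f := by
    rintro ⟨⟨x, hx⟩, n⟩ ⟨⟨x', hx'⟩, n'⟩ e
    have e' : x * (g n)⁻¹ = x' * (g n')⁻¹ :=
      (hf (⟨x, hx⟩, n)).trans (by rw [e]; exact (hf (⟨x', hx'⟩, n')).symm)
    obtain rfl := c.y_inj (by rw [← key x hx n, ← key x' hx' n', e'] : c.y n = c.y n')
    exact Prod.ext (Subtype.ext (mul_right_cancel e')) rfl
  have h1 := Nat.card_le_card_of_injective f hinj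
  rw [Nat.card_prod, Nat.card_prod, Nat.card_fin, Nat.card_fin] at h1
  have h2 := c.card_K
  omega

/-- the centraliser consists of the products -/
theorem mem_C {x : J} : x ∈ Subgroup.centralizer ({c.q 1} : Set J) ↔
    ∃ i j, c.q i * c.h j = x := by
  constructor
  · intro hx
    let f : Fin 32 × Fin 60 → ↥(Subgroup.centralizer ({c.q 1} : Set J)) := fun p =>
      ⟨c.q p.1 * c.h p.2, Subgroup.mem_centralizer_singleton_iff.2 (c.t_comm p.1 p.2)⟩
    have hf : Function.Injective f := fun p p' e => by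
      obtain ⟨a, b⟩ := c.qh_injective (congrArg Subtype.val e)
      exact Prod.ext a b
    have hb := (Nat.bijective_iff_injective_and_card f).2 ⟨hf, le_antisymm
      (Nat.card_le_card_of_injective f hf) (by simpa using c.card_C_le)⟩
    obtain ⟨p, hp⟩ := hb.2 ⟨x, hx⟩
    exact ⟨p.1, p.2, congrArg Subtype.val hp⟩
  · rintro ⟨i, j, rfl⟩
    exact Subgroup.mem_centralizer_singleton_iff.2 (c.t_comm i j)

/-- the action on five points -/
theorem exists_five : ∃ f : ↥(Subgroup.centralizer ({c.q 1} : Set J)) →* Equiv.Perm (Fin 5),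
    ∀ (x : ↥(Subgroup.centralizer ({c.q 1} : Set J))) i j, c.q i * c.h j = (x : J) →
      f x = perm5 j := by
  choose I Jf hIJ using fun x : ↥(Subgroup.centralizer ({c.q 1} : Set J)) => c.mem_C.1 x.2
  have hu : ∀ (x : ↥(Subgroup.centralizer ({c.q 1} : Set J))) i j, c.q i * c.h j = (x : J) →
      perm5 (Jf x) = perm5 j := fun x i j e => by
    rw [(c.qh_injective ((hIJ x).trans e.symm)).2]
  refine ⟨MonoidHom.mk' (fun x => perm5 (Jf x)) fun x y => ?_, hu⟩
  rw [hu (x * y) (c.qmi (I x) (c.cci (Jf x) (I y))) (c.hmi (Jf x) (Jf y)) (by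
    rw [← c.mul_qh, hIJ, hIJ]; rfl)]
  exact perm5_mul rfl

/-- the extraspecial subgroup -/
noncomputable def Q : Subgroup J :=
  (exists_range_subgroup c.q ⟨0, c.hq0⟩ fun i j => ⟨_, c.q_mul i j⟩).choose

theorem mem_Q {x : J} : x ∈ c.Q ↔ ∃ i, c.q i = x :=
  (exists_range_subgroup c.q ⟨0, c.hq0⟩ fun i j => ⟨_, c.q_mul i j⟩).choose_spec x

theorem card_Q : Nat.card c.Q = 32 := by
  rw [← SetLike.coe_sort_coe, show (c.Q : Set J) = Set.range c.q from Set.ext fun x => c.mem_Q,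
    Nat.card_range_of_injective c.q_inj, Nat.card_fin]

theorem center_cases {x : J} (hx : x ∈ c.Q) (hc : ∀ p ∈ c.Q, x * p = p * x) :
    x = 1 ∨ x = c.q 1 := by
  obtain ⟨i, rfl⟩ := c.mem_Q.1 hx
  rcases q_table.1 i fun j => by
    have := hc (c.q j) (c.mem_Q.2 ⟨j, rfl⟩)
    rw [c.q_mul, c.q_mul] at this
    exact c.q_eq this with r | r
  · exact Or.inl (by rw [show i = 0 from Fin.ext r, c.hq0])
  · exact Or.inr (by rw [show i = 1 from Fin.ext r])

theorem comm_cases {x y : J} (hx : x ∈ c.Q) (hy : y ∈ c.Q) :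
    x * y = y * x ∨ x * y = c.q 1 * (y * x) := by
  obtain ⟨i, rfl⟩ := c.mem_Q.1 hx
  obtain ⟨j, rfl⟩ := c.mem_Q.1 hy
  rw [c.q_mul, c.q_mul, c.q_mul]
  exact (q_table.2.1 i j).imp (fun r => congrArg c.q (Fin.ext r)) fun r => congrArg c.q (Fin.ext r)

theorem extraspecial : Cfsg.IsExtraspecial 2 ↥c.Q := by
  have : Fact (Nat.Prime 2) := ⟨Nat.prime_two⟩
  have ht : c.q 1 ∈ c.Q := c.mem_Q.2 ⟨1, rfl⟩
  have hz : ∀ x : ↥c.Q, x ∈ Subgroup.center ↥c.Q ↔ (x : J) = 1 ∨ (x : J) = c.q 1 := by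
    intro x
    rw [Subgroup.mem_center_iff]
    constructor
    · intro h
      exact c.center_cases x.2 fun p hp => (congrArg Subtype.val (h ⟨p, hp⟩)).symm
    · intro h g
      refine Subtype.ext ?_
      rcases h with e | e
      · show (g : J) * x = x * g
        rw [e, mul_one, one_mul]
      · obtain ⟨i, hi⟩ := c.mem_Q.1 g.2
        show (g : J) * x = x * g
        rw [e, ← hi]
        exact c.q_one_comm i
  refine PGroup.isExtraspecial_of_center (IsPGroup.of_card (n := 5) (by rw [c.card_Q]; norm_num))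
    ?_ (fun h => ?_) ?_ fun x => (hz _).2 ?_
  · have : ((Subgroup.center ↥c.Q : Subgroup ↥c.Q) : Set ↥c.Q) = {1, ⟨c.q 1, ht⟩} := by
      ext x
      rw [SetLike.mem_coe, hz, Set.mem_insert_iff, Set.mem_singleton_iff, Subtype.ext_iff,
        Subtype.ext_iff]
      rfl
    rw [← SetLike.coe_sort_coe, Nat.card_coe_set_eq, this,
      Set.ncard_pair fun e => c.t_ne (congrArg Subtype.val e).symm]
  · obtain ⟨i, j, hij⟩ := q_table.2.2.2.1
    have e : c.q i * c.q j = c.q j * c.q i := congrArg Subtype.val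
      (h.is_comm.comm ⟨c.q i, c.mem_Q.2 ⟨i, rfl⟩⟩ ⟨c.q j, c.mem_Q.2 ⟨j, rfl⟩⟩)
    rw [c.q_mul, c.q_mul] at e
    exact hij (c.q_eq e)
  · rw [commutator_def, Subgroup.commutator_le]
    rintro a - b -
    refine (hz _).2 ?_
    show (a : J) * b * (a : J)⁻¹ * (b : J)⁻¹ = 1 ∨ (a : J) * b * (a : J)⁻¹ * (b : J)⁻¹ = c.q 1
    rcases c.comm_cases a.2 b.2 with e | e
    · left; rw [e]; group
    · right; rw [e]; group
  · obtain ⟨i, hi⟩ := c.mem_Q.1 x.2
    show ((x ^ 2 : ↥c.Q) : J) = 1 ∨ ((x ^ 2 : ↥c.Q) : J) = c.q 1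
    rw [SubgroupClass.coe_pow, pow_two, ← hi, c.q_mul, ← c.hq0]
    exact (q_table.2.2.1 i).imp (fun r => congrArg c.q (Fin.ext r)) fun r => congrArg c.q (Fin.ext r)

theorem rank_le {A : Subgroup J} (hA : A ≤ c.Q) (hc : ∀ a ∈ A, ∀ b ∈ A, a * b = b * a)
    (h2 : ∀ a ∈ A, a * a = 1) : Nat.card A ≤ 4 := by
  classical
  by_contra hlt
  push Not at hlt
  obtain ⟨B, hB⟩ : ∃ B : Set (Fin 32), B = {i | c.q i ∈ A} := ⟨_, rfl⟩
  have hBc : Nat.card A ≤ B.ncard := by
    rw [← SetLike.coe_sort_coe, Nat.card_coe_set_eq, show (A : Set J) = c.q '' B from ?_]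
    · exact Set.ncard_image_le
    · ext x
      refine ⟨fun hx => ?_, ?_⟩
      · obtain ⟨i, rfl⟩ := c.mem_Q.1 (hA hx)
        exact ⟨i, by rw [hB]; exact hx, rfl⟩
      · rintro ⟨i, hi, rfl⟩
        rw [hB] at hi
        exact hi
  have mem : ∀ i, i ∈ B ↔ c.q i ∈ A := fun i => by rw [hB]; rfl
  have hsq : ∀ i ∈ B, qM i.val i.val = 0 := fun i hi => by
    have := h2 _ ((mem i).1 hi)
    rw [c.q_mul, ← c.hq0] at this
    exact c.q_eq this
  have hcm : ∀ i ∈ B, ∀ j ∈ B, qM i.val j.val = qM j.val i.val := fun i hi j hj => by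
    have := hc _ ((mem i).1 hi) _ ((mem j).1 hj)
    rw [c.q_mul, c.q_mul] at this
    exact c.q_eq this
  have small : ∀ a b d e : Fin 32, B ⊆ {a, b, d, e} → B.ncard ≤ 4 := fun a b d e h => by
    refine (Set.ncard_le_ncard h).trans ?_
    refine (Set.ncard_insert_le _ _).trans ?_
    refine Nat.succ_le_succ ((Set.ncard_insert_le _ _).trans ?_)
    refine Nat.succ_le_succ ((Set.ncard_insert_le _ _).trans ?_)
    rw [Set.ncard_singleton]
  by_cases h1 : ∃ i ∈ B, i.val ≠ 0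
  swap
  · push Not at h1
    have := small 0 0 0 0 fun i hi => Or.inl (Fin.ext (h1 i hi))
    omega
  obtain ⟨i, hi, hi0⟩ := h1
  by_cases h3 : ∃ j ∈ B, j.val ≠ 0 ∧ j ≠ i
  swap
  · push Not at h3
    have := small 0 i i i fun j hj => by
      by_cases hj0 : j.val = 0
      · exact Or.inl (Fin.ext hj0)
      · exact Or.inr (Or.inl (h3 j hj hj0))
    omega
  obtain ⟨j, hj, hj0, hji⟩ := h3
  have := small 0 i j (c.qmi i j) fun k hk => by
    rcases q_rank i j (hsq i hi) (hsq j hj) hi0 hj0 (Ne.symm hji) (hcm i hi j hj) k (hsq k hk)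
      (hcm i hi k hk) (hcm j hj k hk) with r | r | r | r
    · exact Or.inl (Fin.ext r)
    · exact Or.inr (Or.inl (Fin.ext r))
    · exact Or.inr (Or.inr (Or.inl (Fin.ext r)))
    · exact Or.inr (Or.inr (Or.inr (Fin.ext r)))
  omega

theorem extraFive : FusionSimple.ExtraFive (c.q 1) c.Q := by
  refine ⟨c.mem_Q.2 ⟨1, rfl⟩, c.t_ne, c.card_Q, fun x hx => ?_, fun q hq h => c.center_cases hq h,
    fun p hp q hq => ?_, ?_, ?_, ?_⟩
  · obtain ⟨i, rfl⟩ := c.mem_Q.1 hx
    exact Subgroup.mem_centralizer_singleton_iff.2 (c.q_one_comm i)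
  · rcases c.comm_cases hp hq with e | e
    · left; rw [e]; group
    · right; rw [e]; group
  · obtain ⟨f, hf⟩ := c.exists_five
    refine ⟨f, le_antisymm ?_ ?_, fun x => ?_⟩
    · rintro _ ⟨x, rfl⟩
      obtain ⟨i, j, e⟩ := c.mem_C.1 x.2
      rw [hf x i j e]
      exact perm5_even j
    · intro σ hσ
      let g : Fin 60 → ↥(alternatingGroup (Fin 5)) := fun j => ⟨perm5 j, perm5_even j⟩
      have hg : Function.Bijective g := (Fintype.bijective_iff_injective_and_card g).2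
        ⟨fun a b e => perm5_injective (congrArg Subtype.val e), by decide +kernel⟩
      obtain ⟨j, hj⟩ := hg.2 ⟨σ, hσ⟩
      exact ⟨⟨c.q 0 * c.h j, c.mem_C.2 ⟨0, j, rfl⟩⟩,
        (hf _ 0 j rfl).trans (congrArg Subtype.val hj)⟩
    · obtain ⟨i, j, e⟩ := c.mem_C.1 x.2
      rw [hf x i j e, c.mem_Q]
      constructor
      · intro h
        rw [perm5_injective (h.trans perm5_one.symm), c.hh0, mul_one] at e
        exact ⟨i, e⟩
      · rintro ⟨k, hk⟩
        have : c.q i * c.h j = c.q k * c.h 0 := by rw [e, c.hh0, mul_one, hk]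
        rw [(c.qh_injective this).2, perm5_one]
  · obtain ⟨j, i, h1, h2⟩ := q_table.2.2.2.2.2.1
    have e : c.h j * c.q i * (c.h j)⁻¹ = c.q (c.cci j i) := mul_inv_eq_iff_eq_mul.2 (c.h_q j i)
    refine ⟨c.h j, c.q i, ?_, c.mem_Q.2 ⟨i, rfl⟩, fun r => ?_, fun r => ?_⟩
    · have := c.t_comm 0 j
      rwa [c.hq0, one_mul] at this
    · exact h1 (c.q_eq (e.symm.trans r))
    · rw [e, c.q_mul] at r
      exact h2 (c.q_eq r)
  · obtain ⟨i, hi, hi2⟩ := q_table.2.2.2.2.2.2
    obtain ⟨g, hg⟩ := c.one_class (x := c.q i)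
      (by rw [c.q_mul, show c.qmi i i = 0 from Fin.ext hi2, c.hq0])
      (fun e => by have := c.q_eq (e.trans c.hq0.symm); simp at this; omega)
    refine ⟨g, c.mem_Q.2 ⟨i, hg.symm⟩, fun e => ?_⟩
    have := c.q_eq (hg.symm.trans e)
    simp at this; omega

include c in
theorem conj_involutions {x y : J} (hx : orderOf x = 2) (hy : orderOf y = 2) : IsConj x y := by
  have hcl : ∀ {x : J}, orderOf x = 2 → IsConj (c.q 1) x := fun {x} hx => by
    obtain ⟨h2, h1⟩ := (orderOf_eq_prime_iff (p := 2) (hp := ⟨Nat.prime_two⟩)).1 hx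
    rw [pow_two] at h2
    obtain ⟨g, hg⟩ := c.one_class h2 h1
    exact isConj_iff.2 ⟨g, hg⟩
  exact (hcl hx).symm.trans (hcl hy)

include c in
theorem exists_structure : ∃ t : J, orderOf t = 2 ∧
    ∃ (Q : Subgroup ↥(Subgroup.centralizer ({t} : Set J))) (_ : Q.Normal),
      Cfsg.IsExtraspecial 2 Q ∧ Nat.card Q = 32 ∧
      (∀ E : Subgroup Q, Cfsg.IsElementaryAbelian 2 E → Nat.card E ≤ 2 ^ 2) ∧
      (∃ H : Subgroup ↥(Subgroup.centralizer ({t} : Set J)), Q.IsComplement' H) ∧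
      Nonempty (↥(Subgroup.centralizer ({t} : Set J)) ⧸ Q ≃* ↥(alternatingGroup (Fin 5))) := by
  obtain ⟨f, hr, hf⟩ := c.extraFive.quot
  refine ⟨c.q 1, (orderOf_eq_prime_iff (hp := ⟨Nat.prime_two⟩)).2 ⟨by rw [pow_two, c.t_sq], c.t_ne⟩,
    f.ker, inferInstance, ?_⟩
  let C := Subgroup.centralizer ({c.q 1} : Set J)
  let e : ↥c.Q ≃* ↥f.ker :=
    { toFun := fun x => ⟨⟨x, c.extraFive.le_cent x.2⟩, (hf _).2 x.2⟩
      invFun := fun x => ⟨(x : ↥C), (hf _).1 x.2⟩
      left_inv := fun _ => rfl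
      right_inv := fun _ => rfl
      map_mul' := fun _ _ => rfl }
  have hcard : Nat.card ↥f.ker = 32 := (Nat.card_congr e.toEquiv).symm.trans c.card_Q
  refine ⟨LargeExtra.isExtraspecial_map_equiv c.extraspecial e, hcard, fun E hE => ?_, ?_,
    ⟨(QuotientGroup.quotientKerEquivRange f).trans (MulEquiv.subgroupCongr hr)⟩⟩
  · let ι : ↥f.ker →* J := C.subtype.comp f.ker.subtype
    have hι : Function.Injective ι := C.subtype_injective.comp f.ker.subtype_injective
    rw [← Subgroup.card_map_of_injective hι]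
    refine c.rank_le ?_ ?_ ?_
    · rintro _ ⟨x, -, rfl⟩
      exact (hf _).1 x.2
    · rintro _ ⟨x, hx, rfl⟩ _ ⟨y, hy, rfl⟩
      rw [← map_mul, ← map_mul]
      exact congrArg ι (congrArg Subtype.val (hE.1.is_comm.comm ⟨x, hx⟩ ⟨y, hy⟩))
    · rintro _ ⟨x, hx, rfl⟩
      rw [← map_mul, ← pow_two, hE.2 x hx, map_one]
  · obtain ⟨Hs, hH⟩ := exists_range_subgroup c.h ⟨0, c.hh0⟩ fun i j => ⟨_, c.h_mul i j⟩
    refine ⟨Hs.subgroupOf C, Subgroup.isComplement'_of_disjoint_and_mul_eq_univ ?_ ?_⟩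
    · rw [Subgroup.disjoint_def]
      intro x hx hxH
      obtain ⟨k, hk⟩ := c.mem_Q.1 ((hf x).1 hx)
      obtain ⟨j, hj⟩ := (hH x).1 hxH
      refine Subtype.ext ?_
      rw [← hj, c.eq_zero_of_h_eq_q (hj.trans hk.symm), c.hh0]
      rfl
    · refine Set.eq_univ_of_forall fun x => ?_
      obtain ⟨i, j, e⟩ := c.mem_C.1 x.2
      refine ⟨⟨c.q i, c.mem_C.2 ⟨i, 0, by rw [c.hh0, mul_one]⟩⟩, (hf _).2 (c.mem_Q.2 ⟨i, rfl⟩),
        ⟨c.h j, c.mem_C.2 ⟨0, j, by rw [c.hq0, one_mul]⟩⟩,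
        Subgroup.mem_subgroupOf.2 ((hH _).2 ⟨j, rfl⟩), Subtype.ext e⟩

include c in
theorem fusion_simple {G : Type*} [Group G] [Finite G] (e₀ : G ≃* J) (S : Sylow 2 G) :
    (groupFusionSystem (S : Subgroup G)).IsSimple 2 := by
  have : Fact (Nat.Prime 2) := ⟨Nat.prime_two⟩
  obtain ⟨P, hP⟩ := c.exists_sylow
  obtain ⟨R, hR⟩ := (S.2.map e₀.toMonoidHom).exists_le_sylow
  obtain ⟨a, rfl⟩ := MulAction.exists_smul_eq J P R
  let e : G ≃* J := e₀.trans (MulAut.conj a⁻¹)
  refine (c.extraFive.comap e).isSimple (fun s hs => ?_)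
  rw [Subgroup.mem_centralizer_singleton_iff, ← e.injective.eq_iff, map_mul, map_mul,
    e.apply_symm_apply]
  obtain ⟨p, hp, hpe⟩ := hR ⟨s, hs, rfl⟩
  have hpe' : a * p * a⁻¹ = e₀ s := hpe
  obtain ⟨i, v, n, -, hpv⟩ := hP p hp
  have : e s = p := by
    show a⁻¹ * e₀ s * a⁻¹⁻¹ = p
    rw [← hpe']; group
  rw [this, ← hpv]
  exact c.t_comm i v

end InvCert

end Cfsg.Agent.SporB.J3
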