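import Cfsg.Agent.SporB.J3.OutCode
import Mathlib

/-!
An automorphism of J3 is determined, up to a choice of two, by the image of an involution and of two
generators of its centraliser.
-/

set_option autoImplicit false

namespace Cfsg.Agent.SporB.J3.OutAut

/-- the facts read off the matrices -/
structure Cert (J : Type*) [Group J] where
  el : CI → J
  el_mul : ∀ a b : CI, el a * el b = el (cm a b)
  el_ker : ∀ a : CI, el a = 1 → a = (0, 0)
  cls : ∀ x : J, x * x = 1 → x ≠ 1 → ∃ g : J, g * el cT₀ * g⁻¹ = x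
  card_C_le : Nat.card (Subgroup.centralizer ({el cT₀} : Set J)) ≤ 1920
  card_J : Nat.card J = 50232960
  t_el : ∀ a : CI, el a * el cT₀ = el cT₀ * el a
  u : J
  u_r : el cT₀ * u = u * el cR
  u_t : ∃ s : CI, u * el cT₀ = el s * u
  u_six : u ^ 6 ≠ 1
  u_bad1 : (u * el (1, 0)) ^ 6 = 1
  u_bad2 : (u * el (11, 0)) ^ 6 = 1
  gen : Subgroup.closure (Set.range el ∪ {u}) = ⊤

namespace Cert

variable {J : Type*} [Group J] [Finite J] (c : Cert J)

set_option linter.unusedSectionVars false

theorem el_one : c.el (0, 0) = 1 := by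
  have h := c.el_mul (0, 0) (0, 0)
  rw [show cm (0, 0) (0, 0) = ((0, 0) : CI) by decide +kernel] at h
  exact left_eq_mul.1 h.symm

theorem el_injective : Function.Injective c.el := by
  intro x y e
  obtain ⟨k, hk⟩ := h_inv x.2
  obtain ⟨a, ha⟩ := q_left ⟨hC k.val x.1.val, c_closed k x.1⟩
  have hx : cm (a, k) x = (0, 0) := by
    simp only [cm, Prod.ext_iff, Fin.ext_iff]
    exact ⟨by rw [ha]; rfl, by rw [hk]; rfl⟩
  have h1 : c.el (a, k) * c.el y = 1 := by rw [← e, c.el_mul, hx, c.el_one]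
  rw [c.el_mul] at h1
  have hy := c.el_ker _ h1
  simp only [cm, Prod.ext_iff, Fin.ext_iff] at hy
  have hlt : hM k.val y.2.val < 60 := h_closed k y.2
  have hlt' : qM a.val (hC k.val y.1.val) < 32 := q_closed a ⟨_, c_closed k y.1⟩
  rw [Nat.mod_eq_of_lt hlt', Nat.mod_eq_of_lt hlt] at hy
  have e2 : x.2 = y.2 := h_cancel k _ _ (hk.trans hy.2.symm)
  have e1 : x.1 = y.1 := c_cancel k _ _ (congrArg Fin.val
    (q_cancel a ⟨_, c_closed k x.1⟩ ⟨_, c_closed k y.1⟩ (ha.trans hy.1.symm)))
  exact Prod.ext e1 e2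

theorem eval_el (x y : CI) (w : List ℕ) :
    evalW 1 (· * ·) (c.el x) (c.el y) w = c.el (evalC x y w) := by
  suffices h : ∀ r : CI, w.foldl (fun r k => r * (bif Nat.beq k 0 then c.el x else c.el y)) (c.el r) =
      c.el (w.foldl (fun r k => cm r (bif Nat.beq k 0 then x else y)) r) by
    rw [evalW, ← c.el_one]
    exact h (0, 0)
  induction w with
  | nil => intro r; rfl
  | cons k w ih =>
    intro r
    simp only [List.foldl_cons]
    cases Nat.beq k 0 <;> simp only [cond_true, cond_false, c.el_mul] <;> exact ih _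

theorem eval_map (σ : J ≃* J) (x y : J) (w : List ℕ) :
    σ (evalW 1 (· * ·) x y w) = evalW 1 (· * ·) (σ x) (σ y) w := by
  suffices h : ∀ r : J, σ (w.foldl (fun r k => r * (bif Nat.beq k 0 then x else y)) r) =
      w.foldl (fun r k => r * (bif Nat.beq k 0 then σ x else σ y)) (σ r) by
    have := h 1
    rwa [map_one] at this
  induction w with
  | nil => intro r; rfl
  | cons k w ih =>
    intro r
    simp only [List.foldl_cons]
    cases Nat.beq k 0 <;> simp only [cond_true, cond_false, ih, map_mul]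

theorem t_ne : c.el cT₀ ≠ 1 := fun e => t_order.2 (c.el_ker _ e)

theorem t_sq : c.el cT₀ * c.el cT₀ = 1 := by rw [c.el_mul, t_order.1, c.el_one]

/-- the centraliser consists of the coded elements -/
theorem mem_C {x : J} (hx : x * c.el cT₀ = c.el cT₀ * x) : ∃ a, c.el a = x := by
  let f : CI → ↥(Subgroup.centralizer ({c.el cT₀} : Set J)) := fun a =>
    ⟨c.el a, Subgroup.mem_centralizer_singleton_iff.2 (c.t_el a)⟩
  have hf : Function.Injective f := fun a b e => c.el_injective (congrArg Subtype.val e)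
  have hb := (Nat.bijective_iff_injective_and_card f).2 ⟨hf, le_antisymm
    (Nat.card_le_card_of_injective f hf) (by simpa using c.card_C_le)⟩
  obtain ⟨a, ha⟩ := hb.2 ⟨x, Subgroup.mem_centralizer_singleton_iff.2 hx⟩
  exact ⟨a, congrArg Subtype.val ha⟩

include c in
theorem card_C : Nat.card (Subgroup.centralizer ({c.el cT₀} : Set J)) = 1920 := by
  let f : CI → ↥(Subgroup.centralizer ({c.el cT₀} : Set J)) := fun a =>
    ⟨c.el a, Subgroup.mem_centralizer_singleton_iff.2 (c.t_el a)⟩
  have hf : Function.Injective f := fun a b e => c.el_injective (congrArg Subtype.val e)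
  refine le_antisymm c.card_C_le ?_
  simpa using Nat.card_le_card_of_injective f hf

/-- the stabiliser of the involution in the automorphism group -/
def At : Subgroup (MulAut J) := MulAction.stabilizer (MulAut J) (c.el cT₀)

theorem map_C {σ : MulAut J} (hσ : σ (c.el cT₀) = c.el cT₀) (a : CI) :
    ∃ b, c.el b = σ (c.el a) := by
  refine c.mem_C ?_
  rw [← hσ, ← map_mul, ← map_mul, c.t_el]

/-- the possible images of the two generators -/
def target : Fin 384 × Fin 5 → J × J := fun p =>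
  let x := fiveL.getD p.1.val (0, 0)
  (c.el x, c.el (witC x) * c.el ((survL (witE x)).getD p.2.val (0, 0)) * (c.el (witC x))⁻¹)

theorem orbit_target {σ : MulAut J} (hσ : σ (c.el cT₀) = c.el cT₀) :
    ∃ p, c.target p = (σ (c.el cA), σ (c.el cB)) := by
  obtain ⟨x, hx⟩ := c.map_C hσ cA
  obtain ⟨y, hy⟩ := c.map_C hσ cB
  have hrel : ∀ w, eqC (evalC x y w) (0, 0) = eqC (evalC cA cB w) (0, 0) := by
    intro w
    rw [Bool.eq_iff_iff, eqC_iff, eqC_iff, ← c.el_injective.eq_iff, ← c.eval_el, hx, hy,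
      ← eval_map σ, c.eval_el, c.el_one, ← σ.map_one, σ.injective.eq_iff, ← c.el_one,
      c.el_injective.eq_iff]
  have hxA : ∀ w, eqC (evalC x x w) (0, 0) = eqC (evalC cA cA w) (0, 0) := by
    intro w
    rw [Bool.eq_iff_iff, eqC_iff, eqC_iff, ← c.el_injective.eq_iff, ← c.eval_el, hx,
      ← eval_map σ, c.eval_el, c.el_one, ← σ.map_one, σ.injective.eq_iff, ← c.el_one,
      c.el_injective.eq_iff]
  have h5 : fiveB x = true := by
    have hA := cA_five
    have hne : eqC x (0, 0) = eqC cA (0, 0) := by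
      rw [Bool.eq_iff_iff, eqC_iff, eqC_iff, ← c.el_injective.eq_iff, hx, c.el_one, ← σ.map_one,
        σ.injective.eq_iff, ← c.el_one, c.el_injective.eq_iff]
    rw [fiveB, hne, hxA]
    exact hA
  have hxmem : x ∈ fiveL := List.mem_filter.2 ⟨mem_allCI x, h5⟩
  obtain ⟨k, hk, ek⟩ := List.getElem_of_mem hxmem
  -- move to the normal form
  set g := c.el (witC x) with hg
  have hgx : c.el x * g = g * c.el (cA' (witE x)) := by
    rw [hg, c.el_mul, c.el_mul, five_wit x h5]
  let τ : MulAut J := MulAut.conj g⁻¹ * σ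
  have hτA : τ (c.el cA) = c.el (cA' (witE x)) := by
    show g⁻¹ * σ (c.el cA) * g⁻¹⁻¹ = _
    rw [← hx, inv_inv, mul_assoc, hgx, inv_mul_cancel_left]
  have hτT : τ (c.el cT₀) = c.el cT₀ := by
    show g⁻¹ * σ (c.el cT₀) * g⁻¹⁻¹ = _
    rw [hσ, inv_inv, mul_assoc, hg, ← c.t_el, inv_mul_cancel_left]
  obtain ⟨y', hy'⟩ := c.map_C hτT cB
  have hy'mem : y' ∈ survL (witE x) := by
    refine List.mem_filter.2 ⟨mem_allCI y', ?_⟩
    simp only [relOK, List.all_eq_true, beq_iff_eq]
    intro w _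
    rw [Bool.eq_iff_iff, eqC_iff, eqC_iff, ← c.el_injective.eq_iff, ← c.eval_el, hy', ← hτA,
      ← eval_map τ, c.eval_el, c.el_one, ← τ.map_one, τ.injective.eq_iff, ← c.el_one,
      c.el_injective.eq_iff]
  obtain ⟨m, hm, em⟩ := List.getElem_of_mem hy'mem
  have hm5 : m < 5 := by
    have h2 : witE x = 0 ∨ witE x = 1 := Nat.mod_two_eq_zero_or_one _
    rcases h2 with e | e
    · have := survL_zero; rw [← e] at this; omega
    · have := survL_one; rw [← e] at this; omega
  refine ⟨(⟨k, by have := fiveL_length; omega⟩, ⟨m, hm5⟩), ?_⟩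
  have e1 : fiveL.getD k (0, 0) = x := by rw [List.getD_eq_getElem _ _ hk, ek]
  simp only [target, e1, List.getD_eq_getElem _ _ hm, em, hx, Prod.mk.injEq, true_and]
  rw [hy', ← hg]
  show g * (g⁻¹ * σ (c.el cB) * g⁻¹⁻¹) * g⁻¹ = σ (c.el cB)
  group

theorem fix_el {γ : MulAut J} (ha : γ (c.el cA) = c.el cA) (hb : γ (c.el cB) = c.el cB) (z : CI) :
    γ (c.el z) = c.el z := by
  have hw : ∀ w, γ (c.el (evalC cA cB w)) = c.el (evalC cA cB w) := fun w => by
    rw [← c.eval_el, eval_map γ, ha, hb]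
  rw [← cm_split z, ← c.el_mul, map_mul, ← q_words z.1, ← h_words z.2, hw, hw]

/-- the automorphisms fixing the centraliser pointwise -/
theorem kernel_cases {γ : MulAut J} (hC : ∀ z, γ (c.el z) = c.el z) :
    γ c.u = c.u ∨ γ c.u = c.u * c.el (10, 0) := by
  obtain ⟨d, hu⟩ : ∃ d, γ c.u = c.u * d := ⟨c.u⁻¹ * γ c.u, by rw [mul_inv_cancel_left]⟩
  have h1 : d * c.el cR = c.el cR * d := by
    have h : γ (c.el cT₀ * c.u) = γ (c.u * c.el cR) := by rw [c.u_r]
    rw [map_mul, map_mul, hC, hC, hu] at h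
    rw [← mul_left_cancel_iff (a := c.u), ← mul_assoc, ← h, ← mul_assoc, c.u_r, mul_assoc]
  have h2 : d * c.el cT₀ = c.el cT₀ * d := by
    obtain ⟨s, hs⟩ := c.u_t
    have h : γ (c.u * c.el cT₀) = γ (c.el s * c.u) := by rw [hs]
    rw [map_mul, map_mul, hC, hC, hu] at h
    rw [← mul_left_cancel_iff (a := c.u), ← mul_assoc, h, ← mul_assoc, ← hs, mul_assoc]
  obtain ⟨z, hz⟩ := c.mem_C h2
  have hx : ∀ x ∈ cX, cm z x = cm x z := by
    intro x hxm
    have hyC : (c.u * c.el x * c.u⁻¹) * c.el cT₀ = c.el cT₀ * (c.u * c.el x * c.u⁻¹) := by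
      have ht : c.el cT₀ = c.u * c.el cR * c.u⁻¹ := by rw [← c.u_r, mul_inv_cancel_right]
      rw [ht]
      calc c.u * c.el x * c.u⁻¹ * (c.u * c.el cR * c.u⁻¹)
          = c.u * (c.el x * c.el cR) * c.u⁻¹ := by group
        _ = c.u * (c.el cR * c.el x) * c.u⁻¹ := by rw [c.el_mul, cX_comm x hxm, ← c.el_mul]
        _ = _ := by group
    obtain ⟨y, hy⟩ := c.mem_C hyC
    have e : c.u * c.el x = c.el y * c.u := by rw [hy, inv_mul_cancel_right]
    have h := congrArg γ e
    rw [map_mul, map_mul, hC, hC, hu, ← mul_assoc, ← e, mul_assoc, mul_assoc] at h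
    have h' := mul_left_cancel h
    rw [← hz, c.el_mul, c.el_mul] at h'
    exact c.el_injective h'
  have hr : cm z cR = cm cR z := by
    refine c.el_injective ?_
    rw [← c.el_mul, ← c.el_mul, hz, h1]
  have h6 : ∀ k : CI, d = c.el k → (c.u * c.el k) ^ 6 = 1 → False := by
    intro k hk h
    rw [← hk, ← hu, ← map_pow, ← γ.map_one] at h
    exact c.u_six (γ.injective h)
  rcases double_cent z (eqC_iff.2 hr) (List.all_eq_true.2 fun x hx' => eqC_iff.2 (hx x hx')) with
    e | e | e | e <;> rw [e] at hz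
  · left; rw [hu, ← hz, c.el_one, mul_one]
  · right; rw [hu, ← hz]
  · exact (h6 _ hz.symm c.u_bad1).elim
  · exact (h6 _ hz.symm c.u_bad2).elim

theorem ext_fix {γ δ : MulAut J} (hC : ∀ z, γ (c.el z) = δ (c.el z)) (hu : γ c.u = δ c.u) :
    γ = δ := by
  refine MulEquiv.toMonoidHom_injective (MonoidHom.eq_of_eqOn_dense c.gen ?_)
  rintro x (⟨z, rfl⟩ | rfl)
  exacts [hC z, hu]

include c in
theorem card_At : Nat.card c.At ≤ 1920 * 2 := by
  let P : J × J := (c.el cA, c.el cB)
  rw [← Subgroup.card_mul_index (MulAction.stabilizer c.At P), MulAction.index_stabilizer,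
    ← Nat.card_coe_set_eq, mul_comm]
  refine Nat.mul_le_mul ?_ ?_
  · let f : MulAction.orbit c.At P → Fin 384 × Fin 5 := fun o => by
      have : ∃ p, c.target p = o.1 := by
        obtain ⟨σ, hσ⟩ := o.2
        obtain ⟨p, hp⟩ := c.orbit_target (σ := σ.1) σ.2
        exact ⟨p, hp.trans hσ⟩
      exact this.choose
    have hf : ∀ o, c.target (f o) = o.1 := fun o => by
      simp only [f]
      exact Exists.choose_spec (p := fun p => c.target p = o.1) _
    have hinj : Function.Injective f := fun o o' e => Subtype.ext (by rw [← hf o, e, hf o'])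
    simpa using Nat.card_le_card_of_injective f hinj
  · have hfix : ∀ γ : MulAction.stabilizer c.At P, ∀ z, γ.1.1 (c.el z) = c.el z := by
      intro γ z
      have h := γ.2
      rw [MulAction.mem_stabilizer_iff] at h
      exact c.fix_el (congrArg Prod.fst h) (congrArg Prod.snd h) z
    let k : Bool → J := fun b => bif b then c.u else c.u * c.el (10, 0)
    have hk : ∀ γ : MulAction.stabilizer c.At P, ∃ b, k b = γ.1.1 c.u := fun γ => by
      rcases c.kernel_cases (hfix γ) with e | e
      exacts [⟨true, e.symm⟩, ⟨false, e.symm⟩]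
    choose b hb using hk
    have hinj : Function.Injective b := fun γ δ e => Subtype.ext (Subtype.ext
      (c.ext_fix (fun z => (hfix γ z).trans (hfix δ z).symm) (by rw [← hb γ, e, hb δ])))
    simpa using Nat.card_le_card_of_injective b hinj

include c in
theorem card_mulAut_le : Nat.card (MulAut J) ≤ 2 * Nat.card J := by
  rw [← Subgroup.card_mul_index c.At, At, MulAction.index_stabilizer, ← Nat.card_coe_set_eq]
  have hcls : Nat.card (MulAction.orbit (MulAut J) (c.el cT₀)) * 1920 ≤ Nat.card J := by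
    have hC := c.card_C
    rw [← Subgroup.card_mul_index (Subgroup.centralizer ({c.el cT₀} : Set J)), hC, mul_comm]
    refine Nat.mul_le_mul_left _ ?_
    rw [Subgroup.index]
    let f : J ⧸ Subgroup.centralizer ({c.el cT₀} : Set J) → J :=
      fun q => q.out * c.el cT₀ * q.out⁻¹
    have hsub : MulAction.orbit (MulAut J) (c.el cT₀) ⊆ Set.range f := by
      rintro _ ⟨σ, rfl⟩
      have h2 : σ (c.el cT₀) * σ (c.el cT₀) = 1 := by rw [← map_mul, c.t_sq, map_one]
      have h1 : σ (c.el cT₀) ≠ 1 := fun e => c.t_ne (σ.injective (e.trans σ.map_one.symm))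
      obtain ⟨g, hg⟩ := c.cls _ h2 h1
      refine ⟨(g : J ⧸ Subgroup.centralizer ({c.el cT₀} : Set J)), ?_⟩
      obtain ⟨⟨h, hh⟩, e⟩ := QuotientGroup.mk_out_eq_mul (Subgroup.centralizer ({c.el cT₀} : Set J)) g
      show (QuotientGroup.mk g).out * c.el cT₀ * (QuotientGroup.mk g).out⁻¹ = σ • c.el cT₀
      rw [e]
      show g * h * c.el cT₀ * (g * h)⁻¹ = σ (c.el cT₀)
      rw [← hg, mul_assoc g h, Subgroup.mem_centralizer_singleton_iff.1 hh]
      group
    rw [← SetLike.coe_sort_coe] at *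
    exact (Nat.card_mono (Set.finite_range f) hsub).trans (Finite.card_range_le f)
  have h2 := c.card_At
  calc _ ≤ (1920 * 2) * Nat.card (MulAction.orbit (MulAut J) (c.el cT₀)) :=
        Nat.mul_le_mul_right _ h2
    _ = 2 * (Nat.card (MulAction.orbit (MulAut J) (c.el cT₀)) * 1920) := by ring
    _ ≤ _ := Nat.mul_le_mul_left _ hcls

end Cert

end Cfsg.Agent.SporB.J3.OutAut
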