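import Cfsg.Agent.SporB.J3.OutBound

set_option autoImplicit false

/-! Matrix checks for the automorphisms of J3. -/

namespace Cfsg.Agent.SporB.J3.OutAut

/-- the matrix of a code -/
def elB (a : CI) : BM := bmul (qB a.1.val) (hB a.2.val)

/-- the element moving the involution inside its centraliser -/
noncomputable def uT : BM := bmul (crow 1492).T (bmul (vrow 56).U (srow 13).S)

/-- a code from two numbers -/
def mkC (i j : ℕ) : CI :=
  (⟨i % 32, Nat.mod_lt _ (by norm_num)⟩, ⟨j % 60, Nat.mod_lt _ (by norm_num)⟩)

/-- a word in the two generators and the extra element -/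
noncomputable def wordB (w : List ℕ) : BM :=
  w.foldl (fun r k => bmul r (pick3 (elB cA) (elB cB) uT k)) oneB

/-- one generator as a word -/
noncomputable def genB (n : ℕ) : Bool :=
  Nat.blt (genWords.getD n ([], 0, 0, 3)).2.2.2 3 &&
  beqB (pick3 gen0 gen1 gen2 n)
    (smulB (genWords.getD n ([], 0, 0, 3)).2.2.2
      (bmul (wordB (genWords.getD n ([], 0, 0, 3)).1)
        (elB (mkC (genWords.getD n ([], 0, 0, 3)).2.1 (genWords.getD n ([], 0, 0, 3)).2.2.1))))

/-- the kernel test at a code -/
def kerB (n : ℕ) : Bool := Nat.beq n 0 || !scalB (elB (mkC (n / 60) (n % 60)))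

theorem ker_check : allB kerB 0 1920 = true := by decide +kernel

theorem gen_check : genB 0 = true ∧ genB 1 = true ∧ genB 2 = true := by decide +kernel

theorem u_check :
    beqB (bmul (elB cT₀) uT) (bmul uT (elB cR)) = true ∧
    beqB (bmul uT (elB cT₀)) (bmul (elB (11, 0)) uT) = true ∧
    scalB (powB uT 6) = false ∧
    scalB (powB (bmul uT (elB (1, 0))) 6) = true ∧
    scalB (powB (bmul uT (elB (11, 0))) 6) = true := by decide +kernel

theorem t_comm_check : ∀ a : CI, cm a cT₀ = cm cT₀ a := by decide +kernel

end Cfsg.Agent.SporB.J3.OutAut
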