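import Cfsg.Agent.SporB.J3.InvCheck4
import Cfsg.Agent.SporB.J3.OutData

set_option autoImplicit false
set_option maxRecDepth 20000

/-! The centraliser of an involution as a coded group, with the checks for its automorphisms. -/

namespace Cfsg.Agent.SporB.J3.OutAut

/-- codes for the centraliser -/
abbrev CI : Type := Fin 32 × Fin 60

/-- product of codes -/
def cm (a b : CI) : CI :=
  (⟨qM a.1.val (hC a.2.val b.1.val) % 32, Nat.mod_lt _ (by norm_num)⟩,
    ⟨hM a.2.val b.2.val % 60, Nat.mod_lt _ (by norm_num)⟩)

/-- equality of codes as a Boolean -/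
def eqC (a b : CI) : Bool := Nat.beq a.1.val b.1.val && Nat.beq a.2.val b.2.val

theorem eqC_iff {a b : CI} : eqC a b = true ↔ a = b := by
  simp [eqC, Nat.beq_eq, Prod.ext_iff, Fin.ext_iff]

/-- the value of a word -/
def evalW {M : Type*} (one : M) (mul : M → M → M) (x y : M) (w : List ℕ) : M :=
  w.foldl (fun r k => mul r (bif Nat.beq k 0 then x else y)) one

/-- the value of a word on codes -/
def evalC (x y : CI) (w : List ℕ) : CI := evalW (0, 0) cm x y w

/-- the generators -/
def cA : CI := (0, 3)

def cB : CI := (2, 13)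

/-- the two normal forms for the image of the first generator -/
def cA' (e : ℕ) : CI := bif Nat.beq e 0 then cA else cm cA cA

/-- the relations used -/
def relWords : List (List ℕ) :=
  [[1, 1], [0, 0, 0, 1, 0, 1, 0, 0, 0, 1, 0, 1, 0, 0, 0, 1, 0, 1, 0, 0, 0, 1, 0, 1],
   [0, 1, 0, 1, 0, 1, 0, 1, 0, 1], [0, 0, 1, 0, 0, 1, 0, 0, 1]]

/-- a pair passes the relations -/
def relOK (x y : CI) : Bool :=
  relWords.all fun w => eqC (evalC x y w) (0, 0) == eqC (evalC cA cB w) (0, 0)

/-- all codes -/
def allCI : List CI := (List.finRange 32).flatMap fun i => (List.finRange 60).map fun j => (i, j)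

theorem mem_allCI (x : CI) : x ∈ allCI := by
  simp [allCI, List.mem_flatMap, List.mem_map]

/-- an element of order five -/
def fiveB (x : CI) : Bool :=
  !eqC x (0, 0) && eqC (evalC x x [0, 0, 0, 0, 0]) (0, 0)

/-- the conjugating element of a witness -/
def witC (x : CI) : CI :=
  (⟨((fiveTab.getD x.1.val []).getD x.2.val 0 / 2 / 60) % 32, Nat.mod_lt _ (by norm_num)⟩,
    ⟨(fiveTab.getD x.1.val []).getD x.2.val 0 / 2 % 60, Nat.mod_lt _ (by norm_num)⟩)

/-- the normal form of a witness -/
def witE (x : CI) : ℕ := (fiveTab.getD x.1.val []).getD x.2.val 0 % 2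

/-- the elements of order five -/
def fiveL : List CI := allCI.filter fiveB

/-- the possible images of the second generator -/
def survL (e : ℕ) : List CI := allCI.filter fun y => relOK (cA' e) y

theorem fiveL_length : fiveL.length ≤ 384 := by decide +kernel

theorem survL_zero : (survL 0).length ≤ 5 := by decide +kernel

theorem survL_one : (survL 1).length ≤ 5 := by decide +kernel

theorem cA_five : fiveB cA = true := by decide +kernel

theorem five_wit : ∀ x : CI, fiveB x = true → cm x (witC x) = cm (witC x) (cA' (witE x)) := by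
  decide +kernel

theorem q_words : ∀ i : Fin 32, evalC cA cB (qWords.getD i.val []) = (i, 0) := by decide +kernel

theorem h_words : ∀ j : Fin 60, evalC cA cB (hWords.getD j.val []) = (0, j) := by decide +kernel

theorem cm_split : ∀ x : CI, cm (x.1, 0) (0, x.2) = x := by decide +kernel

theorem h_inv : ∀ j : Fin 60, ∃ k : Fin 60, hM k.val j.val = 0 := by decide +kernel

theorem q_left : ∀ i : Fin 32, ∃ a : Fin 32, qM a.val i.val = 0 := by decide +kernel

theorem h_cancel : ∀ k j l : Fin 60, hM k.val j.val = hM k.val l.val → j = l := by decide +kernel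

theorem q_cancel : ∀ a i j : Fin 32, qM a.val i.val = qM a.val j.val → i = j := by decide +kernel

theorem c_cancel : ∀ (k : Fin 60) (i j : Fin 32), hC k.val i.val = hC k.val j.val → i = j := by
  decide +kernel

theorem c_closed : ∀ (j : Fin 60) (i : Fin 32), hC j.val i.val < 32 := by decide +kernel

theorem q_closed : ∀ a i : Fin 32, qM a.val i.val < 32 := by decide +kernel

theorem h_closed : ∀ k j : Fin 60, hM k.val j.val < 60 := by decide +kernel

/-- the code of the involution -/
def cT₀ : CI := (1, 0)

/-- the code of the moved involution -/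
def cR : CI := (11, 0)

/-- the elements that determine the centre of the double centraliser -/
def cX : List CI := [(0, 6), (0, 14)]

theorem t_order : cm cT₀ cT₀ = (0, 0) ∧ cT₀ ≠ (0, 0) := by decide +kernel

theorem cX_comm : ∀ x ∈ cX, cm x cR = cm cR x := by decide +kernel

theorem double_cent : ∀ z : CI, eqC (cm z cR) (cm cR z) = true →
    (cX.all fun x => eqC (cm z x) (cm x z)) = true →
    z = (0, 0) ∨ z = (10, 0) ∨ z = (1, 0) ∨ z = (11, 0) := by
  decide +kernel

end Cfsg.Agent.SporB.J3.OutAut
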