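import Cfsg.Agent.SporB.J3.Family

set_option autoImplicit false

/-! The centre of the triple cover consists of commutators; the simple quotient has trivial centre. -/

namespace Cfsg.Agent.SporB.J3

open scoped MatrixGroups
open scoped commutatorElement

local notation "Z9" => ZMod 3 × ZMod 3

variable {F : Type*} [Field F] (w : F) [Finite F] [CharP F 2] (hw : w ^ 2 + w + 1 = 0)

include hw

omit [Finite F] in
theorem wpow_add (a b : ZMod 3) : w ^ (a + b).val = w ^ a.val * w ^ b.val := by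
  rw [ZMod.val_add, ← wpow_mod w hw, pow_add]

omit [Finite F] in
/-- the scalar cube root of unity as a commutator -/
theorem exists_scalar_commutator :
    ∃ a b : ↥(Cfsg.Spor.threeJ3 F w),
      ((⁅a, b⁆ : ↥(Cfsg.Spor.threeJ3 F w)) : GL Z9 F).val = w ^ 2 • (1 : Matrix Z9 Z9 F) := by
  have hmem : ∀ l ∈ [witA, witE, witD, witB', witC], ∀ Z : Z9, ∃ x : ↥(Cfsg.Spor.threeJ3 F w),
      (x : GL Z9 F).val = toM w (witB (witAt l Z)) := by
    intro l hl Z
    obtain ⟨x, hx, ex⟩ := witB_mem w hw l hl Z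
    exact ⟨⟨x, by rwa [threeJ3_eq w hw]⟩, ex⟩
  obtain ⟨a, ha⟩ := hmem witD (by simp) (1, 0)
  obtain ⟨b, hb⟩ := hmem witA (by simp) (1, 0)
  rw [toM_eq_of hw (famD (1, 0))] at ha
  rw [toM_eq_of hw (famA (1, 0))] at hb
  have key : (a : GL Z9 F).val * (b : GL Z9 F).val =
      w ^ 2 • ((b : GL Z9 F).val * (a : GL Z9 F).val) := by
    have hA : (b : GL Z9 F).val = Matrix.diagonal fun z : Z9 => w ^ z.1.val := by
      rw [hb, ← j3A_eq w]
      simp [Cfsg.Spor.j3A, Cfsg.Spor.omegaPow]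
    rw [hA, ha]
    ext i j
    simp only [Matrix.mul_diagonal, Matrix.smul_apply, Matrix.diagonal_mul, Matrix.of_apply,
      smul_eq_mul, entD]
    by_cases h : i = j + (1, 0)
    · subst h
      simp only [if_true, valF, Prod.fst_add]
      rw [wpow_add w hw, ZMod.val_one, pow_one]
      linear_combination -(w ^ (expD (1, 0) j).val) * w ^ j.1.val * w_cube hw
    · simp [h, valF]
  refine ⟨a, b, ?_⟩
  rw [commutatorElement_def]
  simp only [Subgroup.coe_mul, Subgroup.coe_inv, Units.val_mul]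
  rw [key, Matrix.smul_mul, Matrix.smul_mul]
  congr 1
  rw [Units.mul_inv_cancel_right, Units.mul_inv]

omit [Finite F] in
theorem smul_central {x : ↥(Cfsg.Spor.threeJ3 F w)} {c : F}
    (hx : (x : GL Z9 F).val = c • (1 : Matrix Z9 Z9 F)) :
    x ∈ Subgroup.center ↥(Cfsg.Spor.threeJ3 F w) := by
  refine Subgroup.mem_center_iff.2 fun g => Subtype.ext (Units.ext ?_)
  show (g : GL Z9 F).val * (x : GL Z9 F).val = (x : GL Z9 F).val * (g : GL Z9 F).val
  rw [hx]
  simp

/-- the centre lies in the commutator subgroup -/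
theorem center_le_commutator :
    Subgroup.center ↥(Cfsg.Spor.threeJ3 F w) ≤ commutator ↥(Cfsg.Spor.threeJ3 F w) := by
  obtain ⟨a, b, h⟩ := exists_scalar_commutator w hw
  have hc : ⁅a, b⁆ ∈ Subgroup.center ↥(Cfsg.Spor.threeJ3 F w) := smul_central w hw h
  have h1 : ⁅a, b⁆ ≠ 1 := by
    intro e
    rw [e] at h
    have h00 := congrFun (congrFun h (0, 0)) (0, 0)
    simp at h00
    exact w_ne_one hw (by linear_combination w * h00 + w_cube hw)
  have : Fact (Nat.Prime 3) := ⟨by norm_num⟩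
  have htop := zpowers_eq_top_of_prime_card (threeJ3_facts w hw).1 (g := ⟨_, hc⟩)
    (fun e => h1 (congrArg Subtype.val e))
  intro z hz
  obtain ⟨k, hk⟩ := Subgroup.mem_zpowers_iff.1 (htop ▸ Subgroup.mem_top
    (⟨z, hz⟩ : Subgroup.center ↥(Cfsg.Spor.threeJ3 F w)))
  have e : ⁅a, b⁆ ^ k = z := congrArg Subtype.val hk
  rw [← e]
  exact Subgroup.zpow_mem _ (Subgroup.commutator_mem_commutator (Subgroup.mem_top a) (Subgroup.mem_top b)) k

theorem center_J3 : Subgroup.center (Cfsg.Spor.J3 F w) = ⊥ := by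
  obtain ⟨-, -, hc, hs⟩ := threeJ3_facts w hw
  haveI := hs
  rcases (Subgroup.center (Cfsg.Spor.J3 F w)).normal_of_characteristic.eq_bot_or_eq_top with h | h
  · exact h
  · exfalso
    letI : CommGroup (Cfsg.Spor.J3 F w) := Group.commGroupOfCenterEqTop h
    have hp := IsSimpleGroup.prime_card (α := Cfsg.Spor.J3 F w)
    rw [hc] at hp
    norm_num at hp

end Cfsg.Agent.SporB.J3
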