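import Cfsg.Agent.SchurCert.Cert

set_option autoImplicit false
set_option maxRecDepth 40000

/-! Certificate for the 3-part of the multiplier of the triple cover of J3. -/

namespace Cfsg.Agent.SporB.J3

open Cfsg.Agent.SchurCert

/-- positions of the generators -/
def threeGenWit : List (ℕ × ℕ × ℕ) := [(4631, 91, 54), (531, 229, 54), (3307, 229, 0), (4795, 229, 54), (2213, 91, 0), (4208, 91, 54)]

/-- positions of the fusing elements -/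
def threeFusWit : List (ℕ × ℕ × ℕ) := [(587, 185, 54), (3560, 185, 54), (459, 185, 54)]

/-- the certificate -/
def threeSchurCert : Cert where
  P :=
    { p := 3
      n := 6
      powW := [[], [], [], [], [0, 1, 1, 2, 2], [1, 2, 2]]
      cjW := [[], [[0]], [[0], [1]], [[0], [1], [2]], [[0], [0, 0, 1], [0, 2], [0, 0, 1, 2, 2, 3]], [[0], [0, 0, 1], [0, 0, 2], [0, 1, 2, 3], [0, 1, 1, 3, 3, 4]]] }
  gens := [
    1210107565283851686118401,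
    2724919990045287515360851688475618968577,
    2857282981222788232487869920488602529589886977,
    2787593152415014102667871679501440911409153,
    689601926562231162448178476875904,
    1298153442871853398703617125384448]
  gs := [
    1461858558149755073506337155156305251823104557056,
    371084575710519202398900451256901822367144083456,
    730796814294076572261783361468917297142405529600]
  rows := [
    .assoc 5 4 3,
    .assoc 5 4 2,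
    .assoc 5 4 1,
    .assoc 5 4 0,
    .assoc 5 3 2,
    .assoc 5 3 1,
    .assoc 5 3 0,
    .fus 0 [[0], [1], [2], [3], [4], [5]] [[0], [2], [0, 1, 1], [3], [5], [0, 1, 2, 4, 4]] [1, 1, 1] [],
    .fus 0 [[0], [1], [2], [3], [4], [5]] [[0], [2], [0, 1, 1], [3], [5], [0, 1, 2, 4, 4]] [2, 2, 2] [],
    .fus 0 [[0], [1], [2], [3], [4], [5]] [[0], [2], [0, 1, 1], [3], [5], [0, 1, 2, 4, 4]] [3, 1] [1, 3],
    .fus 0 [[0], [1], [2], [3], [4], [5]] [[0], [2], [0, 1, 1], [3], [5], [0, 1, 2, 4, 4]] [3, 2] [2, 3],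
    .fus 0 [[0], [1], [2], [3], [4], [5]] [[0], [2], [0, 1, 1], [3], [5], [0, 1, 2, 4, 4]] [4, 1, 4, 2] [0, 0, 1, 4, 0, 2, 4],
    .fus 0 [[0], [1], [2], [3], [4], [5]] [[0], [2], [0, 1, 1], [3], [5], [0, 1, 2, 4, 4]] [4, 1, 4, 3, 4, 3, 5, 5, 5] [0, 0, 1, 4, 0, 0, 1, 2, 2, 3, 4, 0, 0, 1, 2, 2, 3, 4, 1, 2, 2],
    .fus 0 [[0], [1], [2], [3], [4], [5]] [[0], [2], [0, 1, 1], [3], [5], [0, 1, 2, 4, 4]] [4, 1, 4, 1, 5, 1] [0, 0, 1, 4, 0, 0, 1, 4, 0, 0, 1, 5],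
    .fus 0 [[0], [1], [2], [3], [4], [5]] [[0], [2], [0, 1, 1], [3], [5], [0, 1, 2, 4, 4]] [4, 4, 4, 4, 1, 4, 1, 5, 3] [0, 1, 1, 2, 2, 0, 0, 1, 4, 0, 0, 1, 4, 0, 1, 2, 3, 5],
    .fus 1 [[0], [1], [2], [3], [4], [5]] [[0], [0, 2, 2], [1], [3], [0, 0, 1, 1, 2, 5, 5], [4]] [4, 1, 4, 3, 4, 3, 5, 5, 5] [0, 0, 1, 4, 0, 0, 1, 2, 2, 3, 4, 0, 0, 1, 2, 2, 3, 4, 1, 2, 2],
    .fus 2 [[0], [1], [2], [3], [4], [5]] [[0], [1, 1, 2, 2], [0, 0, 1, 2, 2], [0, 3, 3], [1, 2, 2, 3, 4, 5], [0, 0, 1, 1, 3, 3, 4, 4, 5]] [3, 3, 3] []]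
  beta := [[18], [15, 18, 19], [15, 15, 18, 19], [15, 15, 19, 19, 20], [], []]
  combo := [[0, 0, 1, 1, 3, 5, 5, 6, 6, 8, 8, 13, 14, 14, 15, 15], [0, 1, 3, 3, 5, 6, 7, 8, 8, 13, 13, 14, 15], [3, 4, 5], [0, 1, 3, 3, 5, 6, 7, 7, 8, 8, 13, 13, 14, 15], [3, 3, 4, 4, 5, 5, 6, 6], [3, 5, 5, 6, 6], [0, 1, 3, 3, 5, 6, 8, 13, 13, 14, 15, 16], [4, 4, 5, 5], [4, 5, 9, 10], [4, 5, 9, 9, 10], [0, 0, 2, 2, 3, 3, 4, 5, 6, 6, 8, 9, 10, 11, 11, 12, 13, 13, 14], [1, 1, 2, 2, 4, 4, 10, 10], [0, 2, 3, 3, 5, 6, 6, 8, 9, 9, 10, 10, 11, 13, 14, 15], [0, 0, 1, 2, 4, 5, 8, 10, 10, 14, 15], [0, 1, 2, 2, 3, 3, 4, 5, 6, 7, 8, 12, 12, 13, 13, 15, 15], [], [1, 1, 2, 3, 3, 4, 5, 5, 9], [0, 0, 2, 2, 4, 4, 5, 9, 9, 10, 10, 11], [], [], []]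

end Cfsg.Agent.SporB.J3
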