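import Cfsg.Agent.SporB.J3.Field
import Cfsg.Agent.SporB.J3.CheckSmall
import Cfsg.Agent.SporB.J3.CheckC0
import Cfsg.Agent.SporB.J3.CheckC1
import Cfsg.Agent.SporB.J3.CheckC2
import Cfsg.Agent.SporB.J3.CheckC3
import Cfsg.Agent.SporB.J3.CheckC4
import Cfsg.Agent.SporB.J3.CheckC5
import Cfsg.Agent.SporB.J3.CheckC6
import Cfsg.Agent.SporB.J3.CheckC7

set_option autoImplicit false

/-! The checked properties of the certificate, as propositions about packed matrices. -/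

namespace Cfsg.Agent.SporB.J3

theorem crowB_of_lt {i : ℕ} (h : i < 6156) : crowB i = true := by
  rcases Nat.lt_or_ge i 769 with h1 | h1
  · exact allB_spec crows_check0 (by omega) (by omega)
  rcases Nat.lt_or_ge i 1539 with h2 | h2
  · exact allB_spec crows_check1 (by omega) (by omega)
  rcases Nat.lt_or_ge i 2308 with h3 | h3
  · exact allB_spec crows_check2 (by omega) (by omega)
  rcases Nat.lt_or_ge i 3078 with h4 | h4
  · exact allB_spec crows_check3 (by omega) (by omega)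
  rcases Nat.lt_or_ge i 3847 with h5 | h5
  · exact allB_spec crows_check4 (by omega) (by omega)
  rcases Nat.lt_or_ge i 4617 with h6 | h6
  · exact allB_spec crows_check5 (by omega) (by omega)
  rcases Nat.lt_or_ge i 5386 with h7 | h7
  · exact allB_spec crows_check6 (by omega) (by omega)
  · exact allB_spec crows_check7 (by omega) (by omega)

/-- coset representative -/
noncomputable def cT (i : ℕ) : BM := (crow i).T
/-- twisted invariant -/
noncomputable def cK (i : ℕ) : BM := (crow i).K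
/-- representative of a point -/
noncomputable def vU (a : ℕ) : BM := (vrow a).U
/-- element of the small subgroup -/
noncomputable def sS (k : ℕ) : BM := (srow k).S
/-- element of the class -/
noncomputable def xC (d : ℕ) : BM := (xrow d).S

/-- an edge in the coset graph -/
def CEdge (g : BM) (i : ℕ) : Prop :=
  ∃ j < 6156, ∃ a < 255, ∃ k < 96, bmul g (cT i) = bmul (cT j) (bmul (vU a) (sS k))

theorem cedge_of {g : BM} {i j a k : ℕ} (h : cedgeB g (crow i) j a k = true) : CEdge g i := by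
  simp only [cedgeB, Bool.and_eq_true] at h
  obtain ⟨⟨⟨h1, h2⟩, h3⟩, h4⟩ := h
  exact ⟨j, lt_of_blt h1, a, lt_of_blt h2, k, lt_of_blt h3, beqB_eq h4⟩

theorem pick3_mem (a b c : BM) (i : ℕ) : pick3 a b c i = a ∨ pick3 a b c i = b ∨ pick3 a b c i = c := by
  unfold pick3
  cases Nat.beq i 0 <;> cases Nat.beq i 1 <;> simp

theorem beq_false_of_ne {i j : ℕ} (h : i ≠ j) : Nat.beq i j = false := by
  cases hb : Nat.beq i j
  · rfl
  · exact absurd (eq_of_beq' hb) h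

theorem crow_spec {i : ℕ} (hi : i < 6156) :
    CEdge gen0 i ∧ CEdge gen1 i ∧ CEdge gen2 i ∧
    (i ≠ cBase → ∃ p < 6156, (crow p).dep < (crow i).dep ∧
      ∃ g, (g = gen0 ∨ g = gen1 ∨ g = gen2) ∧ cT i = bmul g (cT p)) ∧
    (∃ c < 3, bmul (cT i) formX = bmul (smulB c (cK i)) (conjB (cT i))) ∧
    goodB (cK i) = true ∧ (∃ p, normB (cK i) p = true) ∧
    (i + 1 < 6156 → keyB (cK i) < keyB (cK (i + 1))) ∧
    (i ≠ cBase → i ≠ cOther → beqB (bmul uB (cK i)) (bmul (cK i) (conjB uB)) = false) := by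
  have h := crowB_of_lt hi
  simp only [crowB, Bool.and_eq_true] at h
  obtain ⟨⟨⟨⟨⟨⟨⟨⟨⟨e0, e1⟩, e2⟩, hp⟩, hc⟩, hx⟩, hg⟩, hn⟩, hk⟩, hu⟩ := h
  refine ⟨cedge_of e0, cedge_of e1, cedge_of e2, fun hne => ?_,
    ⟨_, lt_of_blt hc, beqB_eq hx⟩, hg, ⟨_, hn⟩, fun hlt => ?_, fun h1 h2 => ?_⟩
  · rw [beq_false_of_ne hne, Bool.false_or] at hp
    simp only [Bool.and_eq_true] at hp
    exact ⟨_, lt_of_blt hp.1.1, lt_of_blt hp.1.2, _, pick3_mem _ _ _ _, beqB_eq hp.2⟩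
  · rw [beq_false_of_ne (Nat.ne_of_lt hlt), Bool.false_or] at hk
    exact lt_of_blt hk
  · rw [beq_false_of_ne h1, beq_false_of_ne h2, Bool.false_or, Bool.false_or] at hu
    simpa [cK] using hu

/-- an edge in the second graph -/
def VEdge (g : BM) (a : ℕ) : Prop :=
  ∃ b < 255, ∃ k < 96, bmul g (vU a) = bmul (vU b) (sS k)

theorem vedge_of {g : BM} {a b k : ℕ} (h : vedgeB g (vrow a) b k = true) : VEdge g a := by
  simp only [vedgeB, Bool.and_eq_true] at h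
  exact ⟨b, lt_of_blt h.1.1, k, lt_of_blt h.1.2, beqB_eq h.2⟩

theorem vrow_spec {a : ℕ} (ha : a < 255) :
    VEdge lgen0 a ∧ VEdge lgen1 a ∧
    (a ≠ vBase → ∃ p < 255, (vrow p).dep < (vrow a).dep ∧
      ∃ g, (g = lgen0 ∨ g = lgen1) ∧ vU a = bmul g (vU p)) ∧
    bmul (vU a) vecE = (vrow a).V ∧
    (a + 1 < 255 → keyB (vrow a).V < keyB (vrow (a + 1)).V) := by
  have h : vrowB a = true := allB_spec vrows_check (by omega) (by omega)
  simp only [vrowB, Bool.and_eq_true] at h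
  obtain ⟨⟨⟨⟨e0, e1⟩, hp⟩, hv⟩, hk⟩ := h
  refine ⟨vedge_of e0, vedge_of e1, fun hne => ?_, beqB_eq hv, fun hlt => ?_⟩
  · rw [beq_false_of_ne hne, Bool.false_or] at hp
    simp only [Bool.and_eq_true] at hp
    refine ⟨_, lt_of_blt hp.1.1, lt_of_blt hp.1.2, _, ?_, beqB_eq hp.2⟩
    rcases pick3_mem lgen0 lgen1 lgen1 (vrow a).pg with e | e | e
    · exact Or.inl e
    · exact Or.inr e
    · exact Or.inr e
  · rw [beq_false_of_ne (Nat.ne_of_lt hlt), Bool.false_or] at hk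
    exact lt_of_blt hk

theorem srow_spec {k : ℕ} (hk : k < 96) :
    (∃ j < 96, bmul sgen0 (sS k) = sS j) ∧ (∃ j < 96, bmul sgen1 (sS k) = sS j) ∧
    (k ≠ sBase → ∃ p < 96, (srow p).dep < (srow k).dep ∧
      ∃ g, (g = sgen0 ∨ g = sgen1) ∧ sS k = bmul g (sS p)) ∧
    goodB (sS k) = true ∧ (k + 1 < 96 → keyB (sS k) < keyB (sS (k + 1))) := by
  have h : srowB k = true := allB_spec srows_check (by omega) (by omega)
  simp only [srowB, Bool.and_eq_true] at h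
  obtain ⟨⟨⟨⟨⟨⟨b0, b1⟩, e0⟩, e1⟩, hp⟩, hg⟩, hs⟩ := h
  refine ⟨⟨_, lt_of_blt b0, beqB_eq e0⟩, ⟨_, lt_of_blt b1, beqB_eq e1⟩, fun hne => ?_, hg,
    fun hlt => ?_⟩
  · rw [beq_false_of_ne hne, Bool.false_or] at hp
    simp only [Bool.and_eq_true] at hp
    refine ⟨_, lt_of_blt hp.1.1, lt_of_blt hp.1.2, _, ?_, beqB_eq hp.2⟩
    rcases pick3_mem sgen0 sgen1 sgen1 (srow k).pg with e | e | e
    · exact Or.inl e
    · exact Or.inr e
    · exact Or.inr e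
  · rw [beq_false_of_ne (Nat.ne_of_lt hlt), Bool.false_or] at hs
    exact lt_of_blt hs

theorem xrow_spec {d : ℕ} (hd : d < 480) :
    (∃ j < 480, bmul lgen0 (xC d) = bmul (xC j) lgen0) ∧
    (∃ j < 480, bmul lgen1 (xC d) = bmul (xC j) lgen1) ∧
    (d ≠ xBase → ∃ p < 480, (xrow p).dep < (xrow d).dep ∧
      ∃ g, (g = lgen0 ∨ g = lgen1) ∧ bmul g (xC p) = bmul (xC d) g) ∧
    goodB (xC d) = true ∧ (d + 1 < 480 → keyB (xC d) < keyB (xC (d + 1))) ∧
    beqB (bmul (cT cOther) (xC d)) (bmul uB (cT cOther)) = false := by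
  have h : xrowB d = true := allB_spec xrows_check (by omega) (by omega)
  simp only [xrowB, Bool.and_eq_true] at h
  obtain ⟨⟨⟨⟨⟨⟨⟨b0, b1⟩, e0⟩, e1⟩, hp⟩, hg⟩, hs⟩, hu⟩ := h
  refine ⟨⟨_, lt_of_blt b0, beqB_eq e0⟩, ⟨_, lt_of_blt b1, beqB_eq e1⟩, fun hne => ?_, hg,
    fun hlt => ?_, ?_⟩
  · rw [beq_false_of_ne hne, Bool.false_or] at hp
    simp only [Bool.and_eq_true] at hp
    refine ⟨_, lt_of_blt hp.1.1, lt_of_blt hp.1.2, _, ?_, beqB_eq hp.2⟩
    rcases pick3_mem lgen0 lgen1 lgen1 (xrow d).pg with e | e | e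
    · exact Or.inl e
    · exact Or.inr e
    · exact Or.inr e
  · rw [beq_false_of_ne (Nat.ne_of_lt hlt), Bool.false_or] at hs
    exact lt_of_blt hs
  · simpa [xC, cT] using hu

/-- the constants of the certificate -/
noncomputable def constB : Bool :=
  beqB (powB gen0 9) oneB && beqB (powB gen1 8) oneB && beqB (powB gen2 2) oneB &&
  beqB (crow cBase).T oneB && beqB (vrow vBase).U oneB && beqB (srow sBase).S oneB &&
  beqB (xrow xBase).S uB &&
  beqB uB (bmul (vrow uA).U (srow uK).S) && beqB scalW (bmul (vrow wA).U (srow wK).S) &&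
  beqB scalW (smulB 1 oneB) &&
  beqB (powB uB 17) oneB && !beqB uB oneB && beqB (bmul uB formX) (bmul formX (conjB uB)) &&
  beqB (bmul lgen0 formX) (bmul (smulB lc0 formX) (conjB lgen0)) &&
  beqB (bmul lgen1 formX) (bmul (smulB lc1 formX) (conjB lgen1)) &&
  beqB (bmul sgen0 vecE) vecE && beqB (bmul sgen1 vecE) vecE &&
  beqB (bmul (pick3 gen0 gen1 gen2 lEdge0.2.1) (crow lEdge0.1).T)
    (bmul (crow (bif Nat.beq lEdge0.2.1 0 then (crow lEdge0.1).j0 else (crow lEdge0.1).j1)).T lgen0) &&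
  beqB (bmul (pick3 gen0 gen1 gen2 lEdge1.2.1) (crow lEdge1.1).T)
    (bmul (crow (bif Nat.beq lEdge1.2.1 0 then (crow lEdge1.1).j0 else (crow lEdge1.1).j1)).T lgen1) &&
  beqB (bmul (pick3 lgen0 lgen1 lgen1 sEdge0.2.1) (vrow sEdge0.1).U)
    (bmul (vrow (bif Nat.beq sEdge0.2.1 0 then (vrow sEdge0.1).j0 else (vrow sEdge0.1).j1)).U sgen0) &&
  beqB (bmul (pick3 lgen0 lgen1 lgen1 sEdge1.2.1) (vrow sEdge1.1).U)
    (bmul (vrow (bif Nat.beq sEdge1.2.1 0 then (vrow sEdge1.1).j0 else (vrow sEdge1.1).j1)).U sgen1) &&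
  beqB (bmul (crow dec0.1).T uB) (bmul dec0.2.1 (crow dec0.1).T) &&
  beqB (bmul dec0.2.1 dec0.2.2) gen0 && beqB (powB dec0.2.2 17) (smulB 1 oneB) &&
  beqB (bmul (crow dec1.1).T uB) (bmul dec1.2.1 (crow dec1.1).T) &&
  beqB (bmul dec1.2.1 dec1.2.2) gen1 && beqB (powB dec1.2.2 17) (smulB 1 oneB) &&
  beqB (bmul (crow dec2.1).T uB) (bmul dec2.2.1 (crow dec2.1).T) &&
  beqB (bmul dec2.2.1 dec2.2.2) gen2 && beqB (powB dec2.2.2 17) oneB

theorem const_check : constB = true := by decide +kernel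

/-- the constants' properties -/
structure Consts : Prop where
  gpow0 : (powB gen0 9) = oneB
  gpow1 : (powB gen1 8) = oneB
  gpow2 : (powB gen2 2) = oneB
  cbase : (crow cBase).T = oneB
  vbase : (vrow vBase).U = oneB
  sbase : (srow sBase).S = oneB
  xbase : (xrow xBase).S = uB
  uH : uB = (bmul (vrow uA).U (srow uK).S)
  wH : scalW = (bmul (vrow wA).U (srow wK).S)
  wval : scalW = (smulB 1 oneB)
  upow : (powB uB 17) = oneB
  une : beqB uB oneB = false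
  uform : (bmul uB formX) = (bmul formX (conjB uB))
  lform0 : (bmul lgen0 formX) = (bmul (smulB lc0 formX) (conjB lgen0))
  lform1 : (bmul lgen1 formX) = (bmul (smulB lc1 formX) (conjB lgen1))
  sfix0 : (bmul sgen0 vecE) = vecE
  sfix1 : (bmul sgen1 vecE) = vecE
  ledge0 : (bmul (pick3 gen0 gen1 gen2 lEdge0.2.1) (crow lEdge0.1).T) = (bmul (crow (bif Nat.beq lEdge0.2.1 0 then (crow lEdge0.1).j0 else (crow lEdge0.1).j1)).T lgen0)
  ledge1 : (bmul (pick3 gen0 gen1 gen2 lEdge1.2.1) (crow lEdge1.1).T) = (bmul (crow (bif Nat.beq lEdge1.2.1 0 then (crow lEdge1.1).j0 else (crow lEdge1.1).j1)).T lgen1)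
  sedge0 : (bmul (pick3 lgen0 lgen1 lgen1 sEdge0.2.1) (vrow sEdge0.1).U) = (bmul (vrow (bif Nat.beq sEdge0.2.1 0 then (vrow sEdge0.1).j0 else (vrow sEdge0.1).j1)).U sgen0)
  sedge1 : (bmul (pick3 lgen0 lgen1 lgen1 sEdge1.2.1) (vrow sEdge1.1).U) = (bmul (vrow (bif Nat.beq sEdge1.2.1 0 then (vrow sEdge1.1).j0 else (vrow sEdge1.1).j1)).U sgen1)
  d0a : (bmul (crow dec0.1).T uB) = (bmul dec0.2.1 (crow dec0.1).T)
  d0b : (bmul dec0.2.1 dec0.2.2) = gen0
  d0c : (powB dec0.2.2 17) = (smulB 1 oneB)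
  d1a : (bmul (crow dec1.1).T uB) = (bmul dec1.2.1 (crow dec1.1).T)
  d1b : (bmul dec1.2.1 dec1.2.2) = gen1
  d1c : (powB dec1.2.2 17) = (smulB 1 oneB)
  d2a : (bmul (crow dec2.1).T uB) = (bmul dec2.2.1 (crow dec2.1).T)
  d2b : (bmul dec2.2.1 dec2.2.2) = gen2
  d2c : (powB dec2.2.2 17) = oneB

theorem consts : Consts := by
  have h := const_check
  simp only [constB, Bool.and_eq_true, Bool.not_eq_true'] at h
  obtain ⟨⟨⟨⟨⟨⟨⟨⟨⟨⟨⟨⟨⟨⟨⟨⟨⟨⟨⟨⟨⟨⟨⟨⟨⟨⟨⟨⟨⟨h0, h1⟩, h2⟩, h3⟩, h4⟩, h5⟩, h6⟩, h7⟩, h8⟩, h9⟩, h10⟩, h11⟩, h12⟩, h13⟩, h14⟩, h15⟩, h16⟩, h17⟩, h18⟩, h19⟩, h20⟩, h21⟩, h22⟩, h23⟩, h24⟩, h25⟩, h26⟩, h27⟩, h28⟩, h29⟩ := h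
  exact ⟨beqB_eq h0, beqB_eq h1, beqB_eq h2, beqB_eq h3, beqB_eq h4, beqB_eq h5, beqB_eq h6, beqB_eq h7, beqB_eq h8, beqB_eq h9, beqB_eq h10, h11, beqB_eq h12, beqB_eq h13, beqB_eq h14, beqB_eq h15, beqB_eq h16, beqB_eq h17, beqB_eq h18, beqB_eq h19, beqB_eq h20, beqB_eq h21, beqB_eq h22, beqB_eq h23, beqB_eq h24, beqB_eq h25, beqB_eq h26, beqB_eq h27, beqB_eq h28, beqB_eq h29⟩

theorem index_check :
    cBase < 6156 ∧ cOther < 6156 ∧ vBase < 255 ∧ sBase < 96 ∧ xBase < 480 ∧ uA < 255 ∧ uK < 96 ∧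
    wA < 255 ∧ wK < 96 ∧ lEdge0.1 < 6156 ∧ lEdge1.1 < 6156 ∧ sEdge0.1 < 255 ∧ sEdge1.1 < 255 ∧
    dec0.1 < 6156 ∧ dec1.1 < 6156 ∧ dec2.1 < 6156 ∧ lc0 < 3 ∧ lc1 < 3 := by
  decide +kernel

/-- an increasing sequence on an interval is injective -/
theorem eq_of_increasing {n : ℕ} (f : ℕ → ℕ) (h : ∀ i, i + 1 < n → f i < f (i + 1)) {i j : ℕ}
    (hi : i < n) (hj : j < n) (e : f i = f j) : i = j := by
  have key : ∀ d a, a + d + 1 < n → f a < f (a + d + 1) := by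
    intro d
    induction d with
    | zero => exact fun a ha => h a ha
    | succ d ih => exact fun a ha => (ih a (by omega)).trans (h _ (by omega))
  rcases lt_trichotomy i j with hlt | heq | hgt
  · obtain ⟨d, rfl⟩ := Nat.exists_eq_add_of_lt hlt
    exact absurd e (Nat.ne_of_lt (key d i hj))
  · exact heq
  · obtain ⟨d, rfl⟩ := Nat.exists_eq_add_of_lt hgt
    exact absurd e.symm (Nat.ne_of_lt (key d j hi))

end Cfsg.Agent.SporB.J3
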