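import Cfsg.Agent.SporB.J3.Bits

set_option autoImplicit false

/-! Table types and Boolean tests for the certificate of the triple cover of J3. -/

namespace Cfsg.Agent.SporB.J3

/-- entrywise conjugation -/
def conjB (A : BM) : BM := ⟨A.lo ^^^ A.hi, A.hi⟩

/-- multiplication by a power of the cube root of unity -/
def smulB (c : ℕ) (A : BM) : BM :=
  bif Nat.beq c 0 then A else bif Nat.beq c 1 then ⟨A.hi, A.lo ^^^ A.hi⟩ else ⟨A.lo ^^^ A.hi, A.lo⟩

/-- the identity -/
def oneB : BM := ⟨1 + 2^10 + 2^20 + 2^30 + 2^40 + 2^50 + 2^60 + 2^70 + 2^80, 0⟩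

/-- lookup table -/
inductive Tab (α : Type) where
  | nil
  | node (key : ℕ) (val : α) (l r : Tab α)

def Tab.get {α : Type} (dflt : α) : Tab α → ℕ → α
  | .nil, _ => dflt
  | .node k v l r, n => bif Nat.blt n k then l.get dflt n else bif Nat.blt k n then r.get dflt n else v

/-- coset of the large subgroup: representative, twisted invariant with pivot and scalar, tree, edges -/
structure CRow where
  (tl th kl kh p c dep par pg j0 a0 k0 j1 a1 k1 j2 a2 k2 : ℕ)

/-- point of the second action: representative, vector, tree, edges -/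
structure VRow where
  (ul uh vl vh dep par pg j0 k0 j1 k1 : ℕ)

/-- element of the small subgroup or of the class: element, tree, edges -/
structure ERow where
  (sl sh dep par pg j0 j1 : ℕ)

def CRow.T (r : CRow) : BM := ⟨r.tl, r.th⟩
def CRow.K (r : CRow) : BM := ⟨r.kl, r.kh⟩
def VRow.U (r : VRow) : BM := ⟨r.ul, r.uh⟩
def VRow.V (r : VRow) : BM := ⟨r.vl, r.vh⟩
def ERow.S (r : ERow) : BM := ⟨r.sl, r.sh⟩

/-- a code for a matrix below the bound -/
def keyB (A : BM) : ℕ := (A.lo <<< 81) ||| A.hi

/-- both halves have 81 bits at most -/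
def goodB (A : BM) : Bool := Nat.blt A.lo (2 ^ 81) && Nat.blt A.hi (2 ^ 81)

/-- the lowest non-zero entry is a one, in position `p` -/
def normB (A : BM) (p : ℕ) : Bool :=
  Nat.beq ((A.lo >>> p) &&& 1) 1 && Nat.beq ((A.hi >>> p) &&& 1) 0 &&
    Nat.beq ((A.lo ||| A.hi) &&& ((1 <<< p) - 1)) 0

/-- selection by a small index -/
def pick3 (a b c : BM) (i : ℕ) : BM := bif Nat.beq i 0 then a else bif Nat.beq i 1 then b else c

end Cfsg.Agent.SporB.J3
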