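import Cfsg.Agent.SporB.J3.Data

set_option autoImplicit false

/-! The Boolean tests of the certificate. -/

namespace Cfsg.Agent.SporB.J3

/-- power of a packed matrix -/
def powB (A : BM) : ℕ → BM
  | 0 => oneB
  | n + 1 => bmul (powB A n) A

noncomputable def cedgeB (g : BM) (r : CRow) (j a k : ℕ) : Bool :=
  Nat.blt j 6156 && Nat.blt a 255 && Nat.blt k 96 &&
    beqB (bmul g r.T) (bmul (crow j).T (bmul (vrow a).U (srow k).S))

noncomputable def crowB (i : ℕ) : Bool :=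
  cedgeB gen0 (crow i) (crow i).j0 (crow i).a0 (crow i).k0 &&
  cedgeB gen1 (crow i) (crow i).j1 (crow i).a1 (crow i).k1 &&
  cedgeB gen2 (crow i) (crow i).j2 (crow i).a2 (crow i).k2 &&
  (Nat.beq i cBase ||
    (Nat.blt (crow i).par 6156 && Nat.blt (crow (crow i).par).dep (crow i).dep &&
      beqB (crow i).T (bmul (pick3 gen0 gen1 gen2 (crow i).pg) (crow (crow i).par).T))) &&
  Nat.blt (crow i).c 3 &&
  beqB (bmul (crow i).T formX) (bmul (smulB (crow i).c (crow i).K) (conjB (crow i).T)) &&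
  goodB (crow i).K && normB (crow i).K (crow i).p &&
  (Nat.beq (i + 1) 6156 || Nat.blt (keyB (crow i).K) (keyB (crow (i + 1)).K)) &&
  (Nat.beq i cBase || Nat.beq i cOther ||
    !beqB (bmul uB (crow i).K) (bmul (crow i).K (conjB uB)))

noncomputable def vedgeB (g : BM) (r : VRow) (j k : ℕ) : Bool :=
  Nat.blt j 255 && Nat.blt k 96 && beqB (bmul g r.U) (bmul (vrow j).U (srow k).S)

noncomputable def vrowB (a : ℕ) : Bool :=
  vedgeB lgen0 (vrow a) (vrow a).j0 (vrow a).k0 &&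
  vedgeB lgen1 (vrow a) (vrow a).j1 (vrow a).k1 &&
  (Nat.beq a vBase ||
    (Nat.blt (vrow a).par 255 && Nat.blt (vrow (vrow a).par).dep (vrow a).dep &&
      beqB (vrow a).U (bmul (pick3 lgen0 lgen1 lgen1 (vrow a).pg) (vrow (vrow a).par).U))) &&
  beqB (bmul (vrow a).U vecE) (vrow a).V &&
  (Nat.beq (a + 1) 255 || Nat.blt (keyB (vrow a).V) (keyB (vrow (a + 1)).V))

noncomputable def srowB (k : ℕ) : Bool :=
  Nat.blt (srow k).j0 96 && Nat.blt (srow k).j1 96 &&
  beqB (bmul sgen0 (srow k).S) (srow (srow k).j0).S &&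
  beqB (bmul sgen1 (srow k).S) (srow (srow k).j1).S &&
  (Nat.beq k sBase ||
    (Nat.blt (srow k).par 96 && Nat.blt (srow (srow k).par).dep (srow k).dep &&
      beqB (srow k).S (bmul (pick3 sgen0 sgen1 sgen1 (srow k).pg) (srow (srow k).par).S))) &&
  goodB (srow k).S &&
  (Nat.beq (k + 1) 96 || Nat.blt (keyB (srow k).S) (keyB (srow (k + 1)).S))

noncomputable def xrowB (d : ℕ) : Bool :=
  Nat.blt (xrow d).j0 480 && Nat.blt (xrow d).j1 480 &&
  beqB (bmul lgen0 (xrow d).S) (bmul (xrow (xrow d).j0).S lgen0) &&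
  beqB (bmul lgen1 (xrow d).S) (bmul (xrow (xrow d).j1).S lgen1) &&
  (Nat.beq d xBase ||
    (Nat.blt (xrow d).par 480 && Nat.blt (xrow (xrow d).par).dep (xrow d).dep &&
      beqB (bmul (pick3 lgen0 lgen1 lgen1 (xrow d).pg) (xrow (xrow d).par).S)
        (bmul (xrow d).S (pick3 lgen0 lgen1 lgen1 (xrow d).pg)))) &&
  goodB (xrow d).S &&
  (Nat.beq (d + 1) 480 || Nat.blt (keyB (xrow d).S) (keyB (xrow (d + 1)).S)) &&
  !beqB (bmul (crow cOther).T (xrow d).S) (bmul uB (crow cOther).T)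

/-- a test on a range -/
def allB (f : ℕ → Bool) (lo len : ℕ) : Bool := (List.range' lo len).all f

theorem allB_spec {f : ℕ → Bool} {lo len : ℕ} (h : allB f lo len = true) {i : ℕ} (h1 : lo ≤ i)
    (h2 : i < lo + len) : f i = true :=
  List.all_eq_true.1 h i (by simp [List.mem_range'_1, h1, h2])

end Cfsg.Agent.SporB.J3
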